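import Cfsg.Agent.H439.Der.Three
import Cfsg.Agent.H473.Der.Tool

/-!
# S3502: `¬ SCC T v` (helper632)

* `not_SCC_of_two_adj` : a vertex of the prime graph with two neighbours
* `not_SCC_of_count` : a cyclic torus `A = C(x)` with `2 |Out T| c < |A| (v - 1) / v`
* `card_conjPow_le_sub_one`, `card_conjPow_le_eIdx`
-/

set_option autoImplicit false

namespace Cfsg.Agent.H632.Der

open Subgroup Cfsg.Agent.H439.Der Cfsg.Agent.H473.Der Cfsg.Agent.H504.ZeroTI Cfsg.Agent.H504.Zeros
  Cfsg.Agent.H938.Sax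

universe u

variable {T : Type u} [Group T] [Finite T]

omit [Finite T] in
/-- a vertex of the prime graph with two neighbours -/
theorem not_SCC_of_two_adj {v w s : ℕ} (h : H94.PG.Adj T v w) (h' : H94.PG.Adj T v s) (hws : w ≠ s) : ¬ SCC T v := by
  obtain ⟨hv, hw, hne, x, y, hx, hy, hc⟩ := h
  obtain ⟨-, hs, hne', x', y', hx', hy', hc'⟩ := h'
  have h1 : orderOf (x * y) = v * w := by
    rw [hc.orderOf_mul_eq_mul_orderOf_of_coprime (by rw [hx, hy]; exact (Nat.coprime_primes hv hw).2 hne), hx, hy]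
  have h2 : orderOf (x' * y') = v * s := by
    rw [hc'.orderOf_mul_eq_mul_orderOf_of_coprime (by rw [hx', hy']; exact (Nat.coprime_primes hv hs).2 hne'), hx', hy']
  have hv0 := hv.pos
  refine not_SCC_of_orders (x := x) (y := x * y) (z := x' * y') (by rw [hx]) (by rw [h1]; exact dvd_mul_right _ _)
    (by rw [h2]; exact dvd_mul_right _ _) ?_ ?_ ?_
  · rw [hx, h1]
    intro h3
    have := hw.one_lt
    nlinarith
  · rw [hx, h2]
    intro h3
    have := hs.one_lt
    nlinarith
  · rw [h1, h2]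
    exact fun h3 => hws (Nat.eq_of_mul_eq_mul_left hv0 h3)

theorem card_conjPow_le_sub_one {v : ℕ} (hv : v.Prime) {x : T} (hx : orderOf x = v) :
    Nat.card (conjPow x) ≤ v - 1 := by
  classical
  have := Fintype.ofFinite T
  have h1 : (conjPow x) ⊆ ((Finset.univ.filter fun y => y ∈ zpowers x).erase 1 : Finset T) := by
    rintro y ⟨hy, g, hg⟩
    rw [Finset.mem_coe, Finset.mem_erase, Finset.mem_filter]
    refine ⟨?_, Finset.mem_univ _, hy⟩
    rintro rfl
    have h2 := orderOf_conj g x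
    rw [hg, orderOf_one, hx] at h2
    exact hv.one_lt.ne h2
  have h2 : ((Finset.univ.filter fun y => y ∈ zpowers x).erase 1 : Finset T).card = v - 1 := by
    rw [Finset.card_erase_of_mem (by simp), ← hx, ← Nat.card_zpowers, Nat.card_eq_fintype_card, Fintype.card_subtype]
  rw [Nat.card_coe_set_eq, ← h2, ← Set.ncard_coe_finset]
  exact Set.ncard_le_ncard h1 (Set.toFinite _)

theorem card_conjPow_le_eIdx {x : T} {A : Subgroup T} (hA : CC A) (hx : x ∈ A) (hx1 : x ≠ 1) :
    Nat.card (conjPow x) ≤ eIdx A := by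
  have hcen := hA.cent x hx hx1
  have h1 := card_conjPow_mul x
  rw [hcen] at h1
  have hle : normalizer (zpowers x : Set T) ≤ normalizer (A : Set T) := by
    intro g hg
    have hgx : ∀ y, y ∈ zpowers x ↔ g * y * g⁻¹ ∈ zpowers x := by
      rw [Subgroup.mem_normalizer_iff] at hg
      exact hg
    have key : ∀ k : T, k ∈ A ↔ ∀ y ∈ zpowers x, k * y = y * k := by
      intro k
      constructor
      · intro hk y hy
        obtain ⟨j, rfl⟩ := mem_zpowers_iff.1 hy
        exact hA.comm k hk _ (zpow_mem hx j)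
      · intro hk
        rw [← hcen, mem_centralizer_singleton_iff]
        exact hk x (mem_zpowers x)
    rw [Subgroup.mem_normalizer_iff]
    intro k
    rw [key, key]
    constructor
    · intro h y hy
      have h2 : g⁻¹ * y * g ∈ zpowers x := by
        rw [hgx]
        have e : g * (g⁻¹ * y * g) * g⁻¹ = y := by group
        rwa [e]
      have h3 := h _ h2
      calc g * k * g⁻¹ * y = g * (k * (g⁻¹ * y * g)) * g⁻¹ := by group
        _ = g * ((g⁻¹ * y * g) * k) * g⁻¹ := by rw [h3]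
        _ = _ := by group
    · intro h y hy
      have h3 := h _ ((hgx y).1 hy)
      calc k * y = g⁻¹ * ((g * k * g⁻¹) * (g * y * g⁻¹)) * g := by group
        _ = g⁻¹ * ((g * y * g⁻¹) * (g * k * g⁻¹)) * g := by rw [h3]
        _ = _ := by group
  have h2 : Nat.card (normalizer (zpowers x : Set T)) ≤ Nat.card (normalizer (A : Set T)) :=
    Nat.card_le_card_of_injective _ (Subgroup.inclusion_injective hle)
  have h3 : Nat.card (normalizer (A : Set T)) = eIdx A * Nat.card A := by
    unfold eIdx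
    have h1 := Subgroup.card_mul_index (A.subgroupOf (normalizer (A : Set T)))
    rw [← h1, Nat.card_congr (Subgroup.subgroupOfEquivOfLe (Subgroup.le_normalizer (H := A))).toEquiv, mul_comm]
  rw [← h1, h3] at h2
  exact Nat.le_of_mul_le_mul_right h2 Nat.card_pos

/-- the elements of `A` in the `Aut T`-class of `a` -/
theorem card_class_le {v : ℕ} (hv : v.Prime) {A : Subgroup T} (hcyc : IsCyclic A)
    (hC : ∀ x ∈ A, orderOf x = v → centralizer ({x} : Set T) = A) {c : ℕ}
    (hc : ∀ x ∈ A, orderOf x = v → Nat.card (conjPow x) ≤ c) (a : T) (S : Finset T)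
    (hS : ∀ z ∈ S, z ∈ A ∧ v ∣ orderOf z ∧ ∃ φ : T ≃* T, φ a = z) : S.card ≤ Nat.card (Cfsg.Out T) * c := by
  classical
  have : Finite (MulAut T) := Finite.of_injective (fun f : MulAut T => (f : T → T)) DFunLike.coe_injective
  have := Fintype.ofFinite T
  have := Fintype.ofFinite (Cfsg.Out T)
  have hcomm : ∀ a ∈ A, ∀ b ∈ A, a * b = b * a := by
    intro a ha b hb
    have := (IsCyclic.commGroup (α := A)).mul_comm ⟨a, ha⟩ ⟨b, hb⟩
    exact congrArg Subtype.val this
  have hφ : ∀ y : T, ∃ φ : MulAut T, y ∈ S → φ a = y := by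
    intro y
    by_cases hy : y ∈ S
    · obtain ⟨φ, hφ⟩ := (hS y hy).2.2
      exact ⟨φ, fun _ => hφ⟩
    · exact ⟨1, fun h => absurd h hy⟩
  choose φ hφ using hφ
  rw [mul_comm, Nat.card_eq_fintype_card (α := Cfsg.Out T)]
  refine Finset.card_le_mul_card_image_of_maps_to (f := fun y => (QuotientGroup.mk (φ y) : Cfsg.Out T))
    (t := Finset.univ) (fun _ _ => Finset.mem_univ _) _ ?_
  intro k _
  rcases Finset.eq_empty_or_nonempty (S.filter fun y => (QuotientGroup.mk (φ y) : Cfsg.Out T) = k) with h0 | ⟨z0, hz0⟩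
  · rw [h0]; exact Nat.zero_le _
  rw [Finset.mem_filter] at hz0
  obtain ⟨hz0A, hz0v, -⟩ := hS z0 hz0.1
  have hconj : ∀ y ∈ S.filter (fun y => (QuotientGroup.mk (φ y) : Cfsg.Out T) = k), ∃ g : T, g * z0 * g⁻¹ = y := by
    intro y hy
    rw [Finset.mem_filter] at hy
    have h1 : (QuotientGroup.mk (φ z0) : Cfsg.Out T) = QuotientGroup.mk (φ y) := by rw [hz0.2, hy.2]
    rw [QuotientGroup.eq] at h1
    obtain ⟨g, hg⟩ := h1
    have h2 : φ y a = φ z0 (g * a * g⁻¹) := by
      have : φ y = φ z0 * MulAut.conj g := by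
        have hg' : MulAut.conj g = (φ z0)⁻¹ * φ y := hg
        rw [hg', mul_inv_cancel_left]
      rw [this]; rfl
    refine ⟨φ z0 g, ?_⟩
    rw [← hφ y hy.1, h2, map_mul, map_mul, map_inv, hφ z0 hz0.1]
  obtain ⟨j, hj⟩ : ∃ j, orderOf z0 = v * j := hz0v
  have hz0pos : 0 < orderOf z0 := orderOf_pos z0
  have hj0 : j ≠ 0 := by rintro rfl; omega
  have hxo : orderOf (z0 ^ j) = v := by
    rw [orderOf_pow' _ hj0, hj, Nat.gcd_mul_left_left, Nat.mul_div_cancel _ (Nat.pos_of_ne_zero hj0)]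
  have hxA : z0 ^ j ∈ A := pow_mem hz0A j
  refine le_trans ?_ (hc _ hxA hxo)
  have hpow : ∀ g : T, (g * z0 * g⁻¹) ^ j = g * z0 ^ j * g⁻¹ := fun g => conj_pow
  have hzp : ∀ y ∈ A, orderOf y = v → y ∈ zpowers (z0 ^ j) := by
    intro y hy hyo
    have h1 : (Finset.univ.filter fun b : A => b ^ v = 1).card ≤ v := IsCyclic.card_pow_eq_one_le hv.pos
    have h2 : (Finset.univ.filter fun b : A => b ∈ zpowers (⟨z0 ^ j, hxA⟩ : A)) =
        (Finset.univ.filter fun b : A => b ^ v = 1) := by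
      refine Finset.eq_of_subset_of_card_le ?_ ?_
      · intro b hb
        rw [Finset.mem_filter] at hb ⊢
        refine ⟨Finset.mem_univ _, ?_⟩
        obtain ⟨i, rfl⟩ := mem_zpowers_iff.1 hb.2
        have h3 : (⟨z0 ^ j, hxA⟩ : A) ^ v = 1 := by
          apply Subtype.ext
          rw [Subgroup.coe_pow, ← hxo]
          exact pow_orderOf_eq_one _
        rw [← zpow_natCast, ← zpow_mul, mul_comm, zpow_mul, zpow_natCast, h3, one_zpow]
      · refine h1.trans (le_of_eq ?_)
        rw [← Fintype.card_subtype, ← Nat.card_eq_fintype_card]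
        have h4 := Nat.card_zpowers (⟨z0 ^ j, hxA⟩ : A)
        rw [Subgroup.orderOf_mk, hxo] at h4
        exact h4.symm
    have h3 : (⟨y, hy⟩ : A) ∈ (Finset.univ.filter fun b : A => b ^ v = 1) := by
      rw [Finset.mem_filter]
      refine ⟨Finset.mem_univ _, Subtype.ext ?_⟩
      rw [Subgroup.coe_pow, ← hyo]
      exact pow_orderOf_eq_one _
    rw [← h2, Finset.mem_filter] at h3
    obtain ⟨i, hi⟩ := mem_zpowers_iff.1 h3.2
    exact mem_zpowers_iff.2 ⟨i, by simpa using congrArg Subtype.val hi⟩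
  rw [← Set.ncard_coe_finset, ← Nat.card_coe_set_eq]
  refine Nat.card_le_card_of_injective
    (fun y : ((S.filter fun y => (QuotientGroup.mk (φ y) : Cfsg.Out T) = k : Finset T) : Set T) =>
      (⟨(y : T) ^ j, ?_, ?_⟩ : conjPow (z0 ^ j))) ?_
  · have hy := y.2
    rw [Finset.mem_coe] at hy
    obtain ⟨g, hg⟩ := hconj y hy
    have hyA := (hS y (Finset.mem_filter.1 hy).1).1
    refine hzp _ (pow_mem hyA j) ?_
    rw [← hg, hpow, orderOf_conj, hxo]
  · have hy := y.2
    rw [Finset.mem_coe] at hy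
    obtain ⟨g, hg⟩ := hconj y hy
    exact ⟨g, by rw [← hg, hpow]⟩
  · intro y y' hyy
    have h1 : (y : T) ^ j = (y' : T) ^ j := congrArg Subtype.val hyy
    have hy := y.2
    have hy' := y'.2
    rw [Finset.mem_coe] at hy hy'
    obtain ⟨g, hg⟩ := hconj y hy
    obtain ⟨g', hg'⟩ := hconj y' hy'
    apply Subtype.ext
    rw [← hg, ← hg', hpow, hpow] at h1
    have h2 : g'⁻¹ * g ∈ A := by
      rw [← hC _ hxA hxo, mem_centralizer_singleton_iff]
      calc g'⁻¹ * g * z0 ^ j = g'⁻¹ * (g * z0 ^ j * g⁻¹) * g := by group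
        _ = g'⁻¹ * (g' * z0 ^ j * g'⁻¹) * g := by rw [h1]
        _ = _ := by group
    have h3 := hcomm _ h2 _ hz0A
    rw [← hg, ← hg']
    calc g * z0 * g⁻¹ = g' * (g'⁻¹ * g * z0) * g⁻¹ := by group
      _ = g' * (z0 * (g'⁻¹ * g)) * g⁻¹ := by rw [h3]
      _ = _ := by group

/-- **Counting in a cyclic torus.** -/
theorem not_SCC_of_count {v N c o : ℕ} (hv : v.Prime) {A : Subgroup T} (hcyc : IsCyclic A) (hN : Nat.card A = N)
    (hvN : v ∣ N) (hC : ∀ x ∈ A, orderOf x = v → centralizer ({x} : Set T) = A)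
    (hc : ∀ x ∈ A, orderOf x = v → Nat.card (conjPow x) ≤ c) (hO : Nat.card (Cfsg.Out T) ≤ o)
    (hlt : v * (2 * (o * c)) < N * (v - 1)) : ¬ SCC T v := by
  classical
  rintro ⟨a, b, hab⟩
  have := Fintype.ofFinite T
  have hcomm : ∀ a ∈ A, ∀ b ∈ A, a * b = b * a := by
    intro a ha b hb
    have := (IsCyclic.commGroup (α := A)).mul_comm ⟨a, ha⟩ ⟨b, hb⟩
    exact congrArg Subtype.val this
  have := Fact.mk hv
  obtain ⟨x, hx⟩ := exists_prime_orderOf_dvd_card' (G := A) v (by rw [hN]; exact hvN)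
  have hx' : orderOf (x : T) = v := by rw [Subgroup.orderOf_coe, hx]
  -- the `v`-regular elements
  let R : Finset T := Finset.univ.filter fun z => z ∈ A ∧ ¬ v ∣ orderOf z
  let S : Finset T := Finset.univ.filter fun z => z ∈ A ∧ v ∣ orderOf z
  have hRS : R.card + S.card = N := by
    have h1 : (Finset.univ.filter fun z => z ∈ A).card = N := by
      rw [← hN, Nat.card_eq_fintype_card, Fintype.card_subtype]
    rw [← h1, ← Finset.card_filter_add_card_filter_not (s := Finset.univ.filter fun z => z ∈ A)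
      (fun z => ¬ v ∣ orderOf z)]
    congr 2
    · ext z; simp [R]
    · ext z; simp [S]
  have hR : R.card * v ≤ N := by
    have h1 : (R ×ˢ (Finset.range v)).card = R.card * v := by rw [Finset.card_product, Finset.card_range]
    have h2 : (Finset.univ.filter fun z => z ∈ A).card = N := by
      rw [← hN, Nat.card_eq_fintype_card, Fintype.card_subtype]
    rw [← h1, ← h2]
    refine Finset.card_le_card_of_injOn (fun p => p.1 * (x : T) ^ p.2) ?_ ?_
    · rintro ⟨z, i⟩ hz
      rw [Finset.mem_coe, Finset.mem_product, Finset.mem_filter] at hz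
      rw [Finset.mem_coe, Finset.mem_filter]
      exact ⟨Finset.mem_univ _, mul_mem hz.1.2.1 (pow_mem x.2 _)⟩
    · rintro ⟨z, i⟩ hz ⟨z', i'⟩ hz' he
      rw [Finset.mem_coe, Finset.mem_product, Finset.mem_filter, Finset.mem_range] at hz hz'
      obtain ⟨⟨-, hzA, hzv⟩, hi⟩ := hz
      obtain ⟨⟨-, hzA', hzv'⟩, hi'⟩ := hz'
      have he' : z * (x : T) ^ i = z' * (x : T) ^ i' := he
      have hco : (orderOf z * orderOf z').Coprime v := by
        rw [Nat.coprime_comm, Nat.Prime.coprime_iff_not_dvd hv, hv.dvd_mul]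
        tauto
      -- `z'⁻¹ z = x^(i' - i)`
      have h3 : z'⁻¹ * z = (x : T) ^ ((i' : ℤ) - i) := by
        have h4 : z'⁻¹ * (z * (x : T) ^ i) * ((x : T) ^ i)⁻¹ = z'⁻¹ * (z' * (x : T) ^ i') * ((x : T) ^ i)⁻¹ := by rw [he']
        rw [zpow_sub, zpow_natCast, zpow_natCast]
        have e1 : z'⁻¹ * (z * (x : T) ^ i) * ((x : T) ^ i)⁻¹ = z'⁻¹ * z := by group
        have e2 : z'⁻¹ * (z' * (x : T) ^ i') * ((x : T) ^ i)⁻¹ = (x : T) ^ i' * ((x : T) ^ i)⁻¹ := by group
        rw [← e1, h4, e2]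
      have h4 : (z'⁻¹ * z) ^ (orderOf z * orderOf z') = 1 := by
        have hcm : Commute z'⁻¹ z := hcomm _ (inv_mem hzA') _ hzA
        rw [hcm.mul_pow, inv_pow]
        rw [mul_comm (orderOf z), pow_mul, pow_orderOf_eq_one, one_pow, inv_one, one_mul, mul_comm, pow_mul,
          pow_orderOf_eq_one, one_pow]
      have h5 : (z'⁻¹ * z) ^ v = 1 := by
        rw [h3, ← zpow_natCast, ← zpow_mul, mul_comm, zpow_mul, zpow_natCast, ← hx', pow_orderOf_eq_one, one_zpow]
      have h6 : z'⁻¹ * z = 1 := by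
        have h7 := orderOf_dvd_of_pow_eq_one h4
        have h8 := orderOf_dvd_of_pow_eq_one h5
        rw [← orderOf_eq_one_iff]
        exact Nat.dvd_one.1 (hco ▸ Nat.dvd_gcd h7 h8)
      have h7 : z = z' := by
        rw [inv_mul_eq_one] at h6
        exact h6.symm
      have h8 : i = i' := by
        rw [h7] at he'
        have h9 := mul_left_cancel he'
        exact pow_injOn_Iio_orderOf (by rw [Set.mem_Iio, hx']; exact hi) (by rw [Set.mem_Iio, hx']; exact hi') h9
      rw [h7, h8]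
  have hS : S.card ≤ 2 * (Nat.card (Cfsg.Out T) * c) := by
    have h1 : S ⊆ (S.filter fun z => ∃ φ : T ≃* T, φ a = z) ∪ (S.filter fun z => ∃ φ : T ≃* T, φ b = z) := by
      intro z hz
      rcases hab z (Finset.mem_filter.1 hz).2.2 with h | h
      · exact Finset.mem_union_left _ (Finset.mem_filter.2 ⟨hz, h⟩)
      · exact Finset.mem_union_right _ (Finset.mem_filter.2 ⟨hz, h⟩)
    have h2 : ∀ d : T, (S.filter fun z => ∃ φ : T ≃* T, φ d = z).card ≤ Nat.card (Cfsg.Out T) * c := by
      intro d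
      refine card_class_le hv hcyc hC hc d _ fun z hz => ?_
      rw [Finset.mem_filter, Finset.mem_filter] at hz
      exact ⟨hz.1.2.1, hz.1.2.2, hz.2⟩
    have h3 := Finset.card_le_card h1
    have h4 := Finset.card_union_le (S.filter fun z => ∃ φ : T ≃* T, φ a = z) (S.filter fun z => ∃ φ : T ≃* T, φ b = z)
    have h5 := h2 a
    have h6 := h2 b
    omega
  have hoc : Nat.card (Cfsg.Out T) * c ≤ o * c := Nat.mul_le_mul_right _ hO
  have hv1 := hv.one_lt
  obtain ⟨w, rfl⟩ : ∃ w, v = w + 1 := ⟨v - 1, by omega⟩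
  rw [Nat.add_sub_cancel] at hlt
  -- `N w ≤ (w + 1) |S|`
  have h1 : N * w ≤ (w + 1) * S.card := by nlinarith
  have h2 : (w + 1) * S.card ≤ (w + 1) * (2 * (o * c)) := Nat.mul_le_mul_left _ (hS.trans (by omega))
  omega

/-- the order of a self-centralising cyclic torus of prime order gives the automizer -/
theorem not_SCC_of_cent {a e o : ℕ} (ha : a.Prime) (hd : a ∣ Nat.card T)
    (h : ∀ x : T, orderOf x = a → Nat.card (centralizer ({x} : Set T)) = a) (hea : e < a) {N : ℤ}
    (hN : (Nat.card T : ℤ) = a * N) (hmod : ((N : ℤ) : ZMod a) = e) (hO : Nat.card (Cfsg.Out T) ≤ o)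
    (hlt : 2 * (o * e) < a - 1) : ¬ SCC T a := by
  have := Fact.mk ha
  obtain ⟨x, hx⟩ := exists_prime_orderOf_dvd_card' (G := T) a hd
  have hcz : ∀ y ∈ zpowers x, y ≠ 1 → centralizer ({y} : Set T) = zpowers x := by
    intro y hy hy1
    have hyo : orderOf y = a := by
      have h1 : orderOf y ∣ a := by
        rw [← hx]
        exact orderOf_dvd_of_mem_zpowers hy
      rcases (Nat.dvd_prime ha).1 h1 with h2 | h2
      · exact absurd (orderOf_eq_one_iff.1 h2) hy1
      · exact h2
    symm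
    refine Subgroup.eq_of_le_of_card_ge ?_ ?_
    · rw [zpowers_le, mem_centralizer_singleton_iff]
      obtain ⟨k, rfl⟩ := mem_zpowers_iff.1 hy
      rw [← zpow_one_add, ← zpow_add_one, add_comm]
    · rw [h y hyo, Nat.card_zpowers, hx]
  have hcc := cc_of_cyclic (T := zpowers x) inferInstance hcz
  have hcard : Nat.card (zpowers x) = a := by rw [Nat.card_zpowers, hx]
  have he := eIdx_of_int hcc hcard hea ha.one_lt hN hmod
  have hne : ∀ y : T, orderOf y = a → y ≠ 1 := by
    rintro y hy rfl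
    rw [orderOf_one] at hy
    exact ha.one_lt.ne hy
  refine not_SCC_of_count (c := e) ha (A := zpowers x) inferInstance hcard dvd_rfl
    (fun y hy hyo => hcz y hy (hne y hyo)) (fun y hy hyo => ?_) hO ?_
  · rw [← he]
    exact card_conjPow_le_eIdx hcc hy (hne y hyo)
  · exact Nat.mul_lt_mul_of_pos_left hlt ha.pos

/-- a cyclic torus given by orders: `|C(x)| = N` for all `x` of order `v`, an element of order `N` -/
theorem exists_torus {v N : ℕ} (h : ∀ x : T, orderOf x = v → Nat.card (centralizer ({x} : Set T)) = N) {g : T} (hg : orderOf g = N) :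
    ∀ x ∈ zpowers g, orderOf x = v → centralizer ({x} : Set T) = zpowers g := by
  intro x hx hxo
  symm
  refine Subgroup.eq_of_le_of_card_ge ?_ ?_
  · rw [zpowers_le, mem_centralizer_singleton_iff]
    obtain ⟨k, rfl⟩ := mem_zpowers_iff.1 hx
    rw [← zpow_one_add, ← zpow_add_one, add_comm]
  · rw [h x hxo, Nat.card_zpowers, hg]

end Cfsg.Agent.H632.Der
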