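import Cfsg.Agent.H632.Der.Ntc
import Cfsg.Agent.H371.Core.Fam

/-!
# `NTC` from the prime graph: rows and tori (helper632)
-/

set_option autoImplicit false
set_option linter.unusedSectionVars false

namespace Cfsg.Agent.H632.Der

open CoxeterSystem Subgroup Cfsg Cfsg.Lie Cfsg.Lie.ChevalleyDatum
open Cfsg.Agent.ChevalleyStructure Cfsg.Agent.ChevalleyStructure.Elts Cfsg.Agent.ChevalleyStructure.CoxeterGeom
  Cfsg.Agent.ChevalleyStructure.CoxeterGeomTypes Cfsg.Agent.ChevalleyStructure.NPerm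
open Cfsg.Agent.Tits.Roots Cfsg.Agent.Tits.Core Cfsg.Agent.Nodes.Reps Cfsg.Agent.Nodes.BNOf
  Cfsg.Agent.Nodes.RGDChev Cfsg.Agent.Nodes.Bruhat
open Cfsg.Agent.BpExc.RowsUntw
open Cfsg.Agent.BpExc.Tow Cfsg.Agent.BpExc.TowChev Cfsg.Agent.BpExc.FamExt Cfsg.Agent.BpExc.FamUntw
  Cfsg.Agent.BpExc.FamInst Cfsg.Agent.BpExc.LangFr Cfsg.Agent.BpExc.FamField
open Cfsg.Agent.H378.TorDual Cfsg.Agent.H378.TorChar Cfsg.Agent.H378.TorFin Cfsg.Agent.H378.RankOne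
open Cfsg.Agent.H378 Cfsg.Agent.H378.RootTor Cfsg.Agent.H378.SmallTor
open Cfsg.Agent.H493.PGTorus Cfsg.Agent.H129.WData
open Cfsg.Agent.H378.AdjTab Cfsg.Agent.H378.CycTab Cfsg.Agent.H378.ExcAdj
open Cfsg.Agent.H439.Der Cfsg.Agent.H473.Der Cfsg.Agent.H371.Core

universe u

section

variable {D : ChevalleyDatum} {l : ℕ} {M : CoxeterMatrix (Fin l)} (hp : IsType D l M)
  {W : Type*} [Group W] (cs : CoxeterSystem M W) [Finite W] {F : Type u} [Field F] [Finite F]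

include hp cs in
/-- `ℓ` is adjacent to `p`, and to `3` when `p = 2` -/
theorem adjp_row {p : ℕ} [Fact p.Prime] [CharP F p] {d : ℕ} {B : Fin l → Fin l → ℤ} (hB : InvC D l d B) (hd0 : d ≠ 0)
    {A : Mat l}
    (hA : ∀ i j, A i j = cartanOf D l i j) {L : List (Fin l × Mat l)} {r : ℕ} (hr : r < D.nroots)
    {f : ℕ} {c : Fin (f + 1) → ℤ} {V : Fin (f + 1) → Fin l → ℤ} {U : Fin l → ℤ}
    (h : RowOK A L (vec D l r) c V U) {ℓ : ℕ} (hℓ : ℓ.Prime) (hℓp : ℓ ≠ p)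
    (hℓq : ¬ ℓ ∣ Nat.card F - 1) (hdv : (ℓ : ℤ) ∣ pv c (Nat.card F : ℕ)) :
    H94.PG.Adj ↥(D.group F) ℓ p ∧ (p = 2 → ℓ ≠ 3 → H94.PG.Adj ↥(D.group F) ℓ 3) := by
  refine ⟨adj_char_row hp cs hB hd0 hA hr h hℓ hℓp hℓq hdv, fun hp2 hℓ3 => ?_⟩
  subst hp2
  exact adj_three_row hp cs hB hd0 hA hr h hℓ hℓ3 hℓq hdv

include hp cs in
theorem adjp_split {p : ℕ} [Fact p.Prime] [CharP F p] {j : Fin l} {r s : ℕ} (h : Orth D l j r s) {ℓ : ℕ}
    (hℓ : ℓ.Prime) (hℓ2 : ℓ ≠ 2) (hℓp : ℓ ≠ p) (hℓq : ℓ ∣ Nat.card F - 1) :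
    H94.PG.Adj ↥(D.group F) ℓ p ∧ (p = 2 → ℓ ≠ 3 → H94.PG.Adj ↥(D.group F) ℓ 3) := by
  have hpp : p.Prime := Fact.out
  obtain ⟨x, y, hx, hy, hc, h3⟩ := exists_split hp cs h hℓ hℓ2 hℓq (p := p) (F := F)
  refine ⟨⟨hℓ, hpp, hℓp, x, y, hx, hy, hc⟩, fun hp2 hℓ3 => ?_⟩
  obtain ⟨z, hz, hcz⟩ := h3 hp2
  exact ⟨hℓ, Nat.prime_three, hℓ3, x, z, hx, hz, hcz⟩

end

variable {T : Type u} [Group T] [Finite T]

/-- a cyclic torus `C(x)`, with the bound of a linear representation -/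
theorem not_SCC_of_torus {q m P : ℕ} (hT : Tor T q m P) {n : Type*} [Fintype n] [DecidableEq n] {K : Type*} [Field K]
    (ρ : T →* GL n K) (hρ : Function.Injective ρ) {v : ℕ} (hv : v.Prime) (hvK : (v : K) ≠ 0)
    (hod : od q v = m) {o : ℕ} (hO : Nat.card (Cfsg.Out T) ≤ o) (hlt : 4 * (o * Fintype.card n) < P) : ¬ SCC T v := by
  obtain ⟨g, hg⟩ := hT.ex
  refine not_SCC_of_count hv (A := zpowers g) (N := P) (c := Fintype.card n) (o := o) inferInstance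
    (by rw [Nat.card_zpowers, hg]) (hT.dv v hv hod) (exists_torus (hT.ct v hv hod) hg)
    (fun x _ hx => card_conjPow_le ρ hρ hv hvK hx) hO ?_
  have hv2 := hv.two_le
  calc v * (2 * (o * Fintype.card n)) ≤ (2 * (v - 1)) * (2 * (o * Fintype.card n)) :=
        Nat.mul_le_mul_right _ (by omega)
    _ = (4 * (o * Fintype.card n)) * (v - 1) := by ring
    _ < P * (v - 1) := Nat.mul_lt_mul_of_pos_right hlt (by omega)

/-- a cyclic torus `C(x)`, with the trivial bound -/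
theorem not_SCC_of_torus' {q m P : ℕ} (hT : Tor T q m P) {v : ℕ} (hv : v.Prime) (hod : od q v = m) {o : ℕ}
    (hO : Nat.card (Cfsg.Out T) ≤ o) (hlt : v * (2 * o) < P) : ¬ SCC T v := by
  obtain ⟨g, hg⟩ := hT.ex
  refine not_SCC_of_count hv (A := zpowers g) (N := P) (c := v - 1) (o := o) inferInstance
    (by rw [Nat.card_zpowers, hg]) (hT.dv v hv hod) (exists_torus (hT.ct v hv hod) hg)
    (fun x _ hx => card_conjPow_le_sub_one hv hx) hO ?_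
  have hv2 := hv.two_le
  calc v * (2 * (o * (v - 1))) = v * (2 * o) * (v - 1) := by ring
    _ < P * (v - 1) := Nat.mul_lt_mul_of_pos_right hlt (by omega)

end Cfsg.Agent.H632.Der
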