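import Cfsg.Agent.H632.Der.NtcE7

/-!
# S3502: no prime is `SCC` for `E₇(q)` (helper632)
-/

set_option autoImplicit false

namespace Cfsg.Agent.H632.Der.E7

open Cfsg Cfsg.Lie Cfsg.Lie.ChevalleyDatum Cfsg.Agent.H290.ElMain Cfsg.Agent.H290.ElE7
open Cfsg.Agent.H436 (Prim exists_prim)
open Cfsg.Agent.H378 Cfsg.Agent.H378.SmallTor Cfsg.Agent.H378.AdjTab Cfsg.Agent.H378.CycTab Cfsg.Agent.H378.ExcAdj
  Cfsg.Agent.H378.ExcNear
open Cfsg.Agent.BpExc.RowsUntw Cfsg.Agent.BpExc.FamInst Cfsg.Agent.BpExc.FamExt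
open Cfsg.Agent.H439.Der Cfsg.Agent.H473.Der Cfsg.Agent.H129.CycT

theorem bound {f g a N : ℕ} (hg : g ∣ a) (hg2 : g ∣ 2) (h : 1140 * f < a * N) :
    15 * (g * f * 133) < 7 * (a * N / g) := by
  have hgp : 0 < g := Nat.pos_of_dvd_of_pos hg2 (by norm_num)
  have hg2' : g ≤ 2 := Nat.le_of_dvd (by norm_num) hg2
  have h1 : g * (a * N / g) = a * N := Nat.mul_div_cancel' (hg.mul_right N)
  generalize a * N / g = P at *
  rw [← h1] at h
  interval_cases g
  · omega
  · omega

theorem f_le {q f : ℕ} (hq3 : 3 ≤ q) (hf : 2 ^ f ≤ q) : f ≤ q - 2 := by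
  by_contra h
  push Not at h
  have h1 : 2 ^ (q - 1) ≤ 2 ^ f := Nat.pow_le_pow_right (by norm_num) (by omega)
  obtain ⟨t, rfl⟩ := Nat.exists_eq_add_of_le' hq3
  have h2 : t + 3 - 1 = t + 2 := by omega
  rw [h2, pow_add] at h1
  have h3 : t < 2 ^ t := Nat.lt_two_pow_self
  omega

theorem cast_lt {a b : ℕ} {z : ℤ} (h : (b : ℤ) = z) (h1 : (a : ℤ) < z) : a < b := by
  rw [← h] at h1
  exact_mod_cast h1

variable {F : Type} [Field F] [Fintype F] {q : ℕ}

/-- one torus, `q ≥ 3` -/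
theorem torus {g f a N : ℕ} (hO : Nat.card (Cfsg.Out ↥(chevE7.group F)) = g * f) (hg : g ∣ a) (hg2 : g ∣ 2)
    (h : 1140 * f < a * N) {v : ℕ} (hv : v.Prime) (hvF : (v : F) ≠ 0) (h15 : 15 ≤ v)
    (hT : Tcc ↥(chevE7.group F) v (a * N / g)) : ¬ SCC ↥(chevE7.group F) v := by
  refine not_SCC_of_tcc hT hv (fun x hx => card_conjPow_le (chevE7.group F).subtype (Subgroup.subtype_injective _)
    hv hvF hx) hO.le h15 ?_
  rw [H290.ElE7.card_idx]
  exact bound hg hg2 h

/-- **`E₇(q)`** -/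
theorem ntc (F : Type) [Field F] [Fintype F] : NTC ↥(chevE7.group F) := by
  obtain ⟨p, f, hp, hf, hF⟩ : ∃ p f : ℕ, p.Prime ∧ 1 ≤ f ∧ Fintype.card F = p ^ f := by
    obtain ⟨n, hp, h⟩ := FiniteField.card F (ringChar F)
    exact ⟨ringChar F, n, hp, n.pos, h⟩
  have := Fact.mk hp
  have : CharP F p := charP_of_card_eq_prime_pow hF
  have hO := Cfsg.Agent.S2124.result p f hF
  have hFc : Nat.card F = Fintype.card F := Nat.card_eq_fintype_card
  have hq2 : 2 ≤ Fintype.card F := Fintype.one_lt_card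
  have h2f : 2 ^ f ≤ Fintype.card F := by rw [hF]; exact Nat.pow_le_pow_left hp.two_le f
  have hpq : p ∣ Nat.card F := by rw [hFc, hF]; exact dvd_pow_self _ (by omega)
  have hq_of : ∀ v : ℕ, v.Prime → v ∣ Nat.card F → v = p := by
    intro v hv h
    rw [hFc, hF] at h
    exact (Nat.prime_dvd_prime_iff_eq hv hp).1 (hv.dvd_of_dvd_pow h)
  have h32 : H94.PG.Adj ↥(chevE7.group F) 3 2 := by
    have h6 := H473.Der.E7.od_three_le (Nat.card F)
    rcases adj_E7 F Nat.prime_three H473.Der.E7.three_dvd with h4 | h4 | h4 | h4 | h4 | h4 | h4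
    · exact absurd h4 (by norm_num)
    · exact h4
    all_goals exact absurd h4 (by omega)
  obtain ⟨l, hl, hl5, hlq, hl4⟩ := exists_four (q := Nat.card F) (hFc ▸ hq2)
  have hlp : l ≠ p := by rintro rfl; exact hlq hpq
  obtain ⟨a1, a2, a3⟩ := four F hl (by omega) hlp hl4
  refine ntc_of hl5 hlp h32 a1 (fun _ => a2) (fun h => a3 h (by omega))
    (fun h => adj_small e7T AdjE7.orth hp h (Or.inl hpq)) ?_
  intro v hv hd hv2 hvp
  have hvq : ¬ v ∣ Nat.card F := fun h => hvp (hq_of v hv h)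
  have hvF : (v : F) ≠ 0 := fun h => hvp ((Nat.prime_dvd_prime_iff_eq hp hv).1 ((CharP.cast_eq_zero_iff F p v).1 h)).symm
  have key : (od (Nat.card F) v = 7 ∨ od (Nat.card F) v = 9 ∨ od (Nat.card F) v = 12 ∨ od (Nat.card F) v = 14 ∨
      od (Nat.card F) v = 18) → ¬ SCC ↥(chevE7.group F) v := by
    intro h
    have h15 : ∀ {m : ℕ}, od (Nat.card F) v = m → m = 7 ∨ m = 9 ∨ m = 14 ∨ m = 18 → 15 ≤ v := by
      intro m hm h1
      have h2 := mod_of_od hv hm (by omega)
      obtain ⟨k, hk⟩ := h2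
      have h3 := hv.two_le
      have h4 : v % 2 = 1 := by
        rcases hv.eq_two_or_odd with h5 | h5
        · exact absurd h5 hv2
        · exact h5
      rcases h1 with rfl | rfl | rfl | rfl <;> omega
    have hprim : ∀ {m : ℕ}, 0 < m → od (Nat.card F) v = m → Prim (Fintype.card F) m v := fun hm h1 =>
      prim_of_od (by omega) hv hm (hFc ▸ h1)
    obtain ⟨N7, e7, h7⟩ := tcc7 (F := F) rfl
    obtain ⟨N9, e9, h9⟩ := tcc9 (F := F) rfl
    obtain ⟨N14, e14, h14⟩ := tcc14 (F := F) rfl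
    obtain ⟨N18, e18, h18⟩ := tcc18 (F := F) rfl
    rw [← hF] at hO
    rcases Nat.lt_or_ge 2 (Fintype.card F) with hq3 | hq3
    · have hfq := f_le hq3 h2f
      have cs : ((Fintype.card F - 1 : ℕ) : ℤ) = Fintype.card F - 1 := by
        push_cast [Nat.cast_sub (show 1 ≤ Fintype.card F by omega)]; rfl
      have hg1 : Nat.gcd 2 (Fintype.card F - 1) ∣ Fintype.card F - 1 := Nat.gcd_dvd_right _ _
      have hg0 : Nat.gcd 2 (Fintype.card F - 1) ∣ 2 := Nat.gcd_dvd_left _ _
      have hg2 : Nat.gcd 2 (Fintype.card F - 1) ∣ Fintype.card F + 1 := by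
        have h4 := (Nat.dvd_add_right hg1).2 hg0
        rwa [show Fintype.card F - 1 + 2 = Fintype.card F + 1 by omega] at h4
      have hb : ∃ b : ℕ, Fintype.card F = b + 3 ∧ f ≤ b + 1 :=
        ⟨Fintype.card F - 3, by omega, by omega⟩
      obtain ⟨b, hb, hfb⟩ := hb
      have hfb' : (f : ℤ) ≤ b + 1 := by exact_mod_cast hfb
      have hb0 : (0 : ℤ) ≤ b := Int.natCast_nonneg b
      rcases h with h | h | h | h | h
      · refine torus hO hg1 hg0 ?_ hv hvF (h15 h (by omega)) (h7 v (hprim (by norm_num) h))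
        refine cast_lt (z := ((b : ℤ) + 3 - 1) * (1 + ((b : ℤ) + 3) + ((b : ℤ) + 3) ^ 2 + ((b : ℤ) + 3) ^ 3 +
          ((b : ℤ) + 3) ^ 4 + ((b : ℤ) + 3) ^ 5 + ((b : ℤ) + 3) ^ 6)) ?_ ?_
        · rw [Nat.cast_mul, cs, e7, hb]; push_cast; ring
        · push_cast
          have : 0 < ((b : ℤ) + 3 - 1) * (1 + ((b : ℤ) + 3) + ((b : ℤ) + 3) ^ 2 + ((b : ℤ) + 3) ^ 3 +
            ((b : ℤ) + 3) ^ 4 + ((b : ℤ) + 3) ^ 5 + ((b : ℤ) + 3) ^ 6) - 1140 * (b + 1) := by
            ring_nf
            positivity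
          linarith
      · refine torus hO hg1 hg0 ?_ hv hvF (h15 h (by omega)) (h9 v (hprim (by norm_num) h))
        refine cast_lt (z := ((b : ℤ) + 3 - 1) * (1 + ((b : ℤ) + 3) ^ 3 + ((b : ℤ) + 3) ^ 6)) ?_ ?_
        · rw [Nat.cast_mul, cs, e9, hb]; push_cast; ring
        · push_cast
          have : 0 < ((b : ℤ) + 3 - 1) * (1 + ((b : ℤ) + 3) ^ 3 + ((b : ℤ) + 3) ^ 6) - 1140 * (b + 1) := by
            ring_nf
            positivity
          linarith
      · exact not_SCC_12 F hv h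
      · refine torus hO hg2 hg0 ?_ hv hvF (h15 h (by omega)) (h14 v (hprim (by norm_num) h))
        refine cast_lt (z := ((b : ℤ) + 3 + 1) * (1 - ((b : ℤ) + 3) + ((b : ℤ) + 3) ^ 2 - ((b : ℤ) + 3) ^ 3 +
          ((b : ℤ) + 3) ^ 4 - ((b : ℤ) + 3) ^ 5 + ((b : ℤ) + 3) ^ 6)) ?_ ?_
        · rw [Nat.cast_mul, e14, hb]; push_cast; ring
        · push_cast
          have : 0 < ((b : ℤ) + 3 + 1) * (1 - ((b : ℤ) + 3) + ((b : ℤ) + 3) ^ 2 - ((b : ℤ) + 3) ^ 3 +
            ((b : ℤ) + 3) ^ 4 - ((b : ℤ) + 3) ^ 5 + ((b : ℤ) + 3) ^ 6) - 1140 * (b + 1) := by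
            ring_nf
            positivity
          linarith
      · refine torus hO hg2 hg0 ?_ hv hvF (h15 h (by omega)) (h18 v (hprim (by norm_num) h))
        refine cast_lt (z := ((b : ℤ) + 3 + 1) * (1 - ((b : ℤ) + 3) ^ 3 + ((b : ℤ) + 3) ^ 6)) ?_ ?_
        · rw [Nat.cast_mul, e18, hb]; push_cast; ring
        · push_cast
          have : 0 < ((b : ℤ) + 3 + 1) * (1 - ((b : ℤ) + 3) ^ 3 + ((b : ℤ) + 3) ^ 6) - 1140 * (b + 1) := by
            ring_nf
            positivity
          linarith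
    · have hq : Fintype.card F = 2 := le_antisymm hq3 hq2
      have hf1 : f = 1 := by
        rw [hq] at h2f
        have : f < 2 := (Nat.pow_lt_pow_iff_right (by norm_num : 1 < 2)).1 (lt_of_le_of_lt h2f (by norm_num))
        omega
      have hc := Cfsg.Agent.S1064.result (F := F) rfl
      rw [hq] at hc
      rw [hf1, hq] at hO
      norm_num at hO
      rcases h with h | h | h | h | h
      · have h7' := hFc ▸ h
        have h7 := H378.CycTab.dvd7 hv h
        rw [H378.CycTab.pv7, hFc, hq] at h7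
        norm_num at h7
        have h8 : v ∣ 127 := by exact_mod_cast h7
        obtain rfl := (Nat.prime_dvd_prime_iff_eq hv (by norm_num)).1 h8
        refine not_SCC_of_exact hv (exact_E7_7 hq (by norm_num) (N := 127) (by norm_num)) (e := 14) (o := 1)
          (by norm_num) (N := 2 ^ 63 * (2 ^ 2 - 1) * (2 ^ 6 - 1) * (2 ^ 8 - 1) * (2 ^ 10 - 1) * (2 ^ 12 - 1) *
            ((2 ^ 14 - 1) / 127) * (2 ^ 18 - 1)) ?_ ?_ hO.le (by norm_num)
        · norm_num at hc
          rw [hc]; norm_num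
        · norm_num; decide
      · have h7 := H378.CycTab.dvd9 hv h
        rw [H378.CycTab.pv9, hFc, hq] at h7
        norm_num at h7
        have h8 : v ∣ 73 := by exact_mod_cast h7
        obtain rfl := (Nat.prime_dvd_prime_iff_eq hv (by norm_num)).1 h8
        refine not_SCC_of_exact hv (exact_E7_9 hq (by norm_num) (N := 73) (by norm_num)) (e := 18) (o := 1)
          (by norm_num) (N := 2 ^ 63 * (2 ^ 2 - 1) * (2 ^ 6 - 1) * (2 ^ 8 - 1) * (2 ^ 10 - 1) * (2 ^ 12 - 1) *
            (2 ^ 14 - 1) * ((2 ^ 18 - 1) / 73)) ?_ ?_ hO.le (by norm_num)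
        · norm_num at hc
          rw [hc]; norm_num
        · norm_num; decide
      · exact not_SCC_12 F hv h
      · have h1 := h14 v (hprim (by norm_num) h)
        have hN : N14 = 43 := by
          have : (N14 : ℤ) = 43 := by rw [e14, hq]; norm_num
          exact_mod_cast this
        rw [hN, hq] at h1
        norm_num at h1
        have hd' : v ∣ 3 * 43 := by
          obtain ⟨-, -, -, h2, -⟩ := h1
          exact h2
        have h5 := h15 h (by omega)
        have hv43 : v = 43 := by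
          rcases hv.dvd_mul.1 hd' with h2 | h2
          · have := (Nat.prime_dvd_prime_iff_eq hv Nat.prime_three).1 h2
            omega
          · exact (Nat.prime_dvd_prime_iff_eq hv (by norm_num)).1 h2
        exact not_SCC_of_tcc' h1 hv hO.le (by omega)
      · have h1 := h18 v (hprim (by norm_num) h)
        have hN : N18 = 57 := by
          have : (N18 : ℤ) = 57 := by rw [e18, hq]; norm_num
          exact_mod_cast this
        rw [hN, hq] at h1
        norm_num at h1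
        have hd' : v ∣ 9 * 19 := by
          obtain ⟨-, -, -, h2, -⟩ := h1
          exact h2
        have h5 := h15 h (by omega)
        have hv43 : v = 19 := by
          rcases hv.dvd_mul.1 hd' with h2 | h2
          · have := Nat.le_of_dvd (by norm_num) h2
            omega
          · exact (Nat.prime_dvd_prime_iff_eq hv (by norm_num)).1 h2
        exact not_SCC_of_tcc' h1 hv hO.le (by omega)
  rcases adjp F hv hd hv2 hvp hvq with hb | hb
  · rcases adj_E7 F hv hd with h4 | h4 | h4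
    · exact absurd h4 hv2
    · exact Or.inl ⟨h4, fun _ => hb.1, hb.2⟩
    · exact Or.inr (key h4)
  · exact Or.inr (key hb)

end Cfsg.Agent.H632.Der.E7
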