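import Cfsg.Agent.H632.Der.NtcTE6
import Cfsg.Agent.H632.Der.RowE7E8
import Cfsg.Agent.H190.Exc.FinE6

/-!
# S3502: the rows of `E₆(q)` and `²E₆(q)`, `q ≥ 3` (helper632)
-/

set_option autoImplicit false

namespace Cfsg.Agent.H632.Der

open Subgroup Cfsg Cfsg.Lie Cfsg.Agent.H439.Der Cfsg.Agent.H938.Sax
open Cfsg.Agent.H264.FKS (Full)

universe u

/-- **The row of `E₆(q)`.** -/
theorem rowS_e6 {T : Type u} [Group T] [Finite T] (h : IsoChevE6 T) : RowS T := by
  obtain ⟨F, _, _, ⟨e⟩⟩ := h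
  have : Finite ↥(chevE6.group F) := Finite.of_equiv T e.toEquiv
  exact RowS.congr e.symm (rowS_of_full (E6.ntc F) fun M hM =>
    H190.Exc.full_isoE6 ⟨F, inferInstance, inferInstance, ⟨MulEquiv.refl _⟩⟩ M hM)

/-- **The row of `²E₆(q)`, `q ≥ 3`.** -/
theorem rowS_2e6_big {T : Type u} [Group T] [Finite T] (h : Iso2E6 T) (hc : Nat.card T ≠ H81.Der.NT) : RowS T := by
  obtain ⟨K, _, _, q, hq, hK, ⟨e⟩⟩ := h
  have : Finite ↥(twistedE6 K q) := Finite.of_equiv T e.toEquiv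
  refine RowS.congr e.symm (rowS_of_full (TE6.ntc hq hK ?_) fun M hM =>
    H190.Exc.full_isoTE6 ⟨K, inferInstance, inferInstance, q, hq, hK, ⟨MulEquiv.refl _⟩⟩ M hM)
  by_contra hq3
  have hq2 : q = 2 := by have := hq.two_le; omega
  subst hq2
  have h3 := S1066.result (K := K) hq hK
  rw [← Nat.card_congr e.toEquiv] at h3
  norm_num at h3
  refine hc ?_
  unfold H81.Der.NT
  omega

end Cfsg.Agent.H632.Der
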