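import Cfsg.Agent.H632.Der.RowE6
import Cfsg.Agent.H126.Der.TwoSix

/-!
# S3502: the row of `²E₆(q)` (helper632; `q = 2`: helper126)
-/

set_option autoImplicit false

namespace Cfsg.Agent.H632.Der

open Cfsg Cfsg.Lie Cfsg.Agent.H439.Der

universe u

/-- **The row of `²E₆(q)`.** -/
theorem rowS_2e6 {T : Type u} [Group T] [Finite T] (h : Iso2E6 T) : RowS T := by
  obtain ⟨K, iK, iF, q, hq, hK, ⟨e⟩⟩ := id h
  rcases Nat.lt_or_ge q 3 with h3 | h3
  · exact H126.Der.rowS_2e6_two OrdDiv.table (fun _ _ _ _ => S0000.result) h3 hq hK e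
  · have : Finite ↥(twistedE6 K q) := Finite.of_equiv T e.toEquiv
    exact RowS.congr e.symm (rowS_of_full (TE6.ntc hq hK h3) fun M hM =>
      H190.Exc.full_isoTE6 ⟨K, inferInstance, inferInstance, q, hq, hK, ⟨MulEquiv.refl _⟩⟩ M hM)

end Cfsg.Agent.H632.Der
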