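import Cfsg.Agent.H439.Der.Tools

/-!
# The automizer of a semisimple element of prime order of a linear group (helper632)

`card_conjPow_le` : `x` of prime order `v ≠ char K` in `T ≤ GL n K`: at most `n` powers of `x` are conjugate to `x`.
-/

set_option autoImplicit false

namespace Cfsg.Agent.H632.Der

open Subgroup Cfsg.Agent.H439.Der Polynomial

universe u

section spec

variable {n : Type*} [Fintype n] [DecidableEq n] {L : Type*} [Field L] [IsAlgClosed L]

/-- an eigenvalue `λ ≠ 1` with `λ ^ v = 1` -/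
theorem exists_eig [Nonempty n] {v : ℕ} (hvL : (v : L) ≠ 0) {M : Matrix n n L} (hM : M ^ v = 1) (hM1 : M ≠ 1) :
    ∃ μ ∈ spectrum L M, μ ^ v = 1 ∧ μ ≠ 1 := by
  let Q : L[X] := ∑ i ∈ Finset.range v, X ^ i
  have hQ : (X - 1) * Q = X ^ v - 1 := by
    rw [mul_comm]; exact geom_sum_mul X v
  have h1 : (M - 1) * aeval M Q = 0 := by
    have h2 := congrArg (aeval M) hQ
    rw [map_mul, map_sub, map_sub, map_pow, aeval_X, map_one, hM, sub_self] at h2
    exact h2
  have h2 : ¬ IsUnit (aeval M Q) := by
    intro h3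
    have h4 : M - 1 = 0 := by
      have h5 : (M - 1) * aeval M Q = 0 * aeval M Q := by rw [h1, zero_mul]
      exact h3.mul_right_cancel h5
    exact hM1 (sub_eq_zero.1 h4)
  have h3 : (0 : L) ∈ spectrum L (aeval M Q) := by
    rw [spectrum.zero_mem_iff]
    exact h2
  have hne : (spectrum L M).Nonempty := spectrum.nonempty_of_isAlgClosed_of_finiteDimensional L M
  rw [spectrum.map_polynomial_aeval_of_nonempty M Q hne] at h3
  obtain ⟨μ, hμ, h4⟩ := h3
  have h4' : eval μ Q = 0 := h4
  refine ⟨μ, hμ, ?_, ?_⟩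
  · have h5 := congrArg (eval μ) hQ
    rw [eval_mul, h4', mul_zero, eval_sub, eval_pow, eval_X, eval_one] at h5
    exact (sub_eq_zero.1 h5.symm)
  · rintro rfl
    apply hvL
    simpa [Q, eval_finsetSum] using h4'

omit [IsAlgClosed L] in
/-- at most `|n|` powers of an eigenvalue -/
theorem card_le_of_spectrum {M : Matrix n n L} (S : Finset L) (hS : ∀ a ∈ S, a ∈ spectrum L M) :
    S.card ≤ Fintype.card n := by
  classical
  have h1 : S ⊆ M.charpoly.roots.toFinset := by
    intro a ha
    rw [Multiset.mem_toFinset, mem_roots (Matrix.charpoly_monic M).ne_zero,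
      ← Matrix.mem_spectrum_iff_isRoot_charpoly]
    exact hS a ha
  refine (Finset.card_le_card h1).trans ((Multiset.toFinset_card_le _).trans ((card_roots' _).trans ?_))
  rw [Matrix.charpoly_natDegree_eq_dim]

end spec

variable {T : Type u} [Group T] [Finite T]

/-- **At most `n` powers of `x` are conjugate to `x`.** -/
theorem card_conjPow_le {n : Type*} [Fintype n] [DecidableEq n] {K : Type*} [Field K] (ρ : T →* GL n K)
    (hρ : Function.Injective ρ) {v : ℕ} (hv : v.Prime) (hvK : (v : K) ≠ 0) {x : T} (hx : orderOf x = v) :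
    Nat.card (conjPow x) ≤ Fintype.card n := by
  classical
  let L := AlgebraicClosure K
  let f : Matrix n n K →+* Matrix n n L := (algebraMap K L).mapMatrix
  have hf : Function.Injective f := by
    intro A B hAB
    ext i j
    have := congrFun (congrFun hAB i) j
    exact (algebraMap K L).injective this
  let τ : T →* Matrix n n L := f.toMonoidHom.comp ((Units.coeHom _).comp ρ)
  have hτ : Function.Injective τ := by
    intro a b hab
    exact hρ (Units.ext (hf hab))
  have hx1 : x ≠ 1 := by
    rintro rfl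
    rw [orderOf_one] at hx
    exact hv.one_lt.ne hx
  have hne : Nonempty n := by
    by_contra hn
    rw [not_nonempty_iff] at hn
    exact hx1 (hτ (Subsingleton.elim _ _))
  have hvL : (v : L) ≠ 0 := by
    intro h
    apply hvK
    apply (algebraMap K L).injective
    rw [map_natCast, map_zero, h]
  obtain ⟨μ, hμ, hμv, hμ1⟩ := exists_eig (M := τ x) hvL (by rw [← map_pow, ← hx, pow_orderOf_eq_one, map_one])
    (fun h => hx1 (hτ (h.trans (map_one τ).symm)))
  have := Fact.mk hv
  have hμo : orderOf μ = v := orderOf_eq_prime hμv hμ1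
  -- the powers
  have hk : ∀ y : conjPow x, ∃ k : ℕ, x ^ k = y := by
    rintro ⟨y, hy, -⟩
    have := mem_powers_iff_mem_zpowers.2 hy
    exact this
  choose k hk using hk
  have hspec : ∀ y : conjPow x, μ ^ k y ∈ spectrum L (τ x) := by
    intro y
    have h1 : μ ^ k y ∈ spectrum L ((τ x) ^ k y) := by
      have h2 := spectrum.map_polynomial_aeval_of_nonempty (τ x) (X ^ k y : L[X]) ⟨μ, hμ⟩
      rw [map_pow, aeval_X] at h2
      rw [h2]
      exact ⟨μ, hμ, by simp⟩
    rw [← map_pow, hk y] at h1
    obtain ⟨g, hg⟩ := y.2.2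
    rw [← hg, map_mul, map_mul] at h1
    have h3 : τ g * τ x * τ g⁻¹ = (Units.mk (τ g) (τ g⁻¹) (by rw [← map_mul, mul_inv_cancel, map_one])
      (by rw [← map_mul, inv_mul_cancel, map_one]) : (Matrix n n L)ˣ) * τ x *
      ((Units.mk (τ g) (τ g⁻¹) (by rw [← map_mul, mul_inv_cancel, map_one])
      (by rw [← map_mul, inv_mul_cancel, map_one]) : (Matrix n n L)ˣ)⁻¹ : (Matrix n n L)ˣ) := rfl
    rw [h3, spectrum.units_conjugate] at h1
    exact h1
  have := Fintype.ofFinite (conjPow x)
  have hinj : Function.Injective fun y : conjPow x => μ ^ k y := by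
    intro y y' h
    apply Subtype.ext
    rw [← hk y, ← hk y']
    have h' : μ ^ k y = μ ^ k y' := h
    have hμ0 : μ ≠ 0 := by
      rintro rfl
      rw [zero_pow hv.ne_zero] at hμv
      exact zero_ne_one hμv
    have h'' : (Units.mk0 μ hμ0) ^ k y = (Units.mk0 μ hμ0) ^ k y' := Units.ext (by simpa using h')
    have hμo' : orderOf (Units.mk0 μ hμ0) = v := by rw [← orderOf_units, Units.val_mk0, hμo]
    rw [pow_inj_mod, hμo'] at h''
    rw [pow_inj_mod, hx]
    exact h''
  have h1 := card_le_of_spectrum (M := τ x) (Finset.univ.image fun y : conjPow x => μ ^ k y) (fun a ha => by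
    obtain ⟨y, -, rfl⟩ := Finset.mem_image.1 ha
    exact hspec y)
  rwa [Finset.card_image_of_injective _ hinj, Finset.card_univ, ← Nat.card_eq_fintype_card] at h1

end Cfsg.Agent.H632.Der
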