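import Cfsg.Agent.H83.ExcNc

/-!
# Elements of order 3 in rank one subgroups in characteristic 2 (helper632)

`u v u` swaps `A ∋ u` and `B ∋ v`, `u² = v² = 1`: `(u v)³ = 1`.  Hence in characteristic 2 the elements of prime order
`ℓ` of the rows of helper378 commute with elements of order 3.

* `adj_three_row`, `adj_char_row` : adjacency to `3` (`p = 2`) and to `p`
* `adj_three_split`, `adj_char_split` : the same for `ℓ ∣ q - 1`
-/

set_option autoImplicit false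
set_option linter.unusedSectionVars false

namespace Cfsg.Agent.H632.Der

open CoxeterSystem Subgroup Cfsg Cfsg.Lie Cfsg.Lie.ChevalleyDatum
open Cfsg.Agent.ChevalleyStructure Cfsg.Agent.ChevalleyStructure.Elts Cfsg.Agent.ChevalleyStructure.CoxeterGeom
  Cfsg.Agent.ChevalleyStructure.CoxeterGeomTypes Cfsg.Agent.ChevalleyStructure.NPerm
open Cfsg.Agent.Tits.Roots Cfsg.Agent.Tits.Core Cfsg.Agent.Nodes.Reps Cfsg.Agent.Nodes.BNOf
  Cfsg.Agent.Nodes.RGDChev Cfsg.Agent.Nodes.Bruhat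
open Cfsg.Agent.KFacts.RgdField Cfsg.Agent.KFacts.RgdChevCoord Cfsg.Agent.BpExc.TorCent Cfsg.Agent.BpExc.TorChev
open Cfsg.Agent.BpExc.Tow Cfsg.Agent.BpExc.TowChev Cfsg.Agent.BpExc.FamExt Cfsg.Agent.BpExc.FamUntw
  Cfsg.Agent.BpExc.FamInst Cfsg.Agent.BpExc.LangFr Cfsg.Agent.BpExc.FamField
open Cfsg.Agent.GpExc.Field (glMap emb coe_emb glMap_xG emb_injective coe_glMap)
open Cfsg.Agent.H378.TorDual Cfsg.Agent.H378.TorChar Cfsg.Agent.H378.TorFin Cfsg.Agent.H378.RankOne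
open Cfsg.Agent.H378 Cfsg.Agent.H378.RootTor Cfsg.Agent.H378.SmallTor
open Cfsg.Agent.H493.PGTorus Cfsg.Agent.H129.WData

universe u v

/-! ### abstract -/

theorem swap_pow_three {Y : Type*} [Group Y] {A B : Subgroup Y} {u v : Y} (h : Swap A B (u * v * u)) (hu : u ∈ A)
    (hv : v ∈ B) (hu2 : u ^ 2 = 1) (hv2 : v ^ 2 = 1) : (u * v) ^ 3 = 1 := by
  have hui : u⁻¹ = u := by rw [inv_eq_iff_mul_eq_one, ← pow_two, hu2]
  have hvi : v⁻¹ = v := by rw [inv_eq_iff_mul_eq_one, ← pow_two, hv2]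
  have hn : (u * v * u)⁻¹ = u * v * u := by rw [mul_inv_rev, mul_inv_rev, hui, hvi]; group
  have huu : u * u = 1 := by rw [← pow_two, hu2]
  have hvv : v * v = 1 := by rw [← pow_two, hv2]
  have h1 : (u * v * u) * u * (u * v * u)⁻¹ ∈ B := (h.ab u).2 hu
  have h2 : (u * v * u) * v * (u * v * u)⁻¹ ∈ A := (h.ba v).2 hv
  have e1 : (u * v * u) * u * (u * v * u)⁻¹ * v = (u * v) ^ 3 := by
    rw [hn]
    calc (u * v * u) * u * (u * v * u) * v = u * v * (u * u) * (u * v * u) * v := by group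
      _ = u * v * (u * v * u) * v := by rw [huu, mul_one]
      _ = (u * v) ^ 3 := by rw [pow_succ, pow_two]; group
  have e2 : (u * v * u) * v * (u * v * u)⁻¹ * u = (u * v) ^ 3 := by
    rw [hn]
    calc (u * v * u) * v * (u * v * u) * u = u * v * u * v * (u * v) * (u * u) := by group
      _ = u * v * u * v * (u * v) := by rw [huu, mul_one]
      _ = (u * v) ^ 3 := by rw [pow_succ, pow_two]; group
  have h3 : (u * v) ^ 3 ∈ B := e1 ▸ mul_mem h1 hv
  have h4 : (u * v) ^ 3 ∈ A := e2 ▸ mul_mem h2 hu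
  exact h.nor _ h3 fun y hy => mul_mem (mul_mem h4 hy) (inv_mem h4)

theorem swap_order_three {Y : Type*} [Group Y] {A B : Subgroup Y} {u v : Y} (h : Swap A B (u * v * u)) (hu : u ∈ A)
    (hu1 : u ≠ 1) (hv : v ∈ B) (hu2 : u ^ 2 = 1) (hv2 : v ^ 2 = 1) : orderOf (u * v) = 3 := by
  have := Fact.mk Nat.prime_three
  refine orderOf_eq_prime (swap_pow_three h hu hv hu2 hv2) fun h1 => ?_
  have h2 : u⁻¹ = v := inv_eq_of_mul_eq_one_right h1
  have h3 : u ∈ B := by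
    rw [← inv_inv u, h2]
    exact inv_mem hv
  exact hu1 (h.nor u h3 fun y hy => mul_mem (mul_mem hu hy) (inv_mem hu))

variable {D : ChevalleyDatum} {l : ℕ} {M : CoxeterMatrix (Fin l)} (hp : IsType D l M)
  {W : Type*} [Group W] (cs : CoxeterSystem M W)

section Main

variable {k : Type u} [Field k] [IsAlgClosed k] (hk : LocFin k) (r : ℕ) [Fact r.Prime] [CharP k r]
  {F : Type u} [Field F] [Finite F] (f : F →+* k) {n : ℕ} (hn0 : 0 < n) (hn : Nat.card F = r ^ n)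
  {d : ℕ} {B : Fin l → Fin l → ℤ} (hB : InvC D l d B) (hd : d ≠ 0)

include hk hn0 hn hB hd f in
theorem exists_three_aux (hr2 : r = 2) {w : W} {a : Fin l → ℤ} (ha : IsRoot cs hp.isCartan a)
    (hwa : rep cs hp.isCartan w a = a)
    {ℓ : ℕ} (hℓ : ℓ.Prime) (hℓq : ¬ ℓ ∣ Nat.card F - 1)
    (hy : ∃ y : Multiplicative (Co (rep cs hp.isCartan w - ((Nat.card F : ℕ) : ℤ) •
      (1 : Module.End ℤ (Fin l → ℤ)))), orderOf y = ℓ) :
    ∃ x y : ↥(D.group F), orderOf x = ℓ ∧ orderOf y = 3 ∧ Commute x y := by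
  have hcop : ∀ m : ℕ, m.Coprime (Nat.card F - 1) → m.Coprime (Nat.gcd d (Nat.card F - 1)) := fun m hm =>
    Nat.Coprime.coprime_dvd_right (Nat.gcd_dvd_right _ _) hm
  have hℓc : ℓ.Coprime (Nat.card F - 1) := (Nat.Prime.coprime_iff_not_dvd hℓ).2 hℓq
  have hrp : r.Prime := Fact.out
  have hrc : r.Coprime (Nat.card F - 1) := by
    rw [Nat.Prime.coprime_iff_not_dvd hrp]
    intro h1
    have h2 : r ∣ Nat.card F := by rw [hn]; exact dvd_pow_self _ hn0.ne'
    have h3 : 1 ≤ Nat.card F := Nat.card_pos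
    have h4 : r ∣ 1 := by
      have := (Nat.dvd_sub h2 h1)
      have e : Nat.card F - (Nat.card F - 1) = 1 := by omega
      rwa [e] at this
    exact hrp.one_lt.ne' (Nat.dvd_one.1 h4)
  have hinj := emb_injective hp.inList f
  rw [hn] at hy
  obtain ⟨g, hg⟩ := exists_rp cs (nsysL hp cs hk r) w
  obtain ⟨z, hz⟩ := lang' hp r hn0 g
  obtain ⟨e, he⟩ := twEquiv hp cs r hk hB hd hg (m := n)
  obtain ⟨e'⟩ := kerOf_equiv k (det_rep_ne_zero cs r hn0 hp.isCartan w)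
  obtain ⟨y, hy⟩ := hy
  -- the torus element
  obtain ⟨t, ht⟩ : ∃ t : ↥(TwT D k r n g), t = e.symm (e'.symm y) := ⟨_, rfl⟩
  have hto : orderOf t = ℓ := by
    rw [ht, MulEquiv.orderOf_eq, MulEquiv.orderOf_eq, hy]
  have hto' : orderOf t.1 = ℓ := by rw [Subgroup.orderOf_coe, hto]
  have htT : t.1 ∈ TT D k := t.2.1
  have htau : tau D k r n g t.1 = t.1 := t.2.2
  have htℓ : t.1 ^ ℓ = 1 := by rw [← hto']; exact pow_orderOf_eq_one _
  have hχK := (mem_TwT_iff hp cs r hk hg htT).1 t.2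
  have hχℓ : tchar hp ⟨t.1, htT⟩ ^ ℓ = 1 := Regular.tchar_pow_eq_one hp htT htℓ
  have hna : IsRoot cs hp.isCartan (-a) := ha.neg
  have hwna : rep cs hp.isCartan w (-a) = -a := by rw [map_neg, hwa]
  have hℓn : ℓ.Coprime (r ^ n - 1) := by rw [← hn]; exact hℓc
  have hca := chi_eq_one (k := k) hp cs r hχK hwa hχℓ hℓn
  have hcna := chi_eq_one (k := k) hp cs r hχK hwna hχℓ hℓn
  -- the root element
  obtain ⟨u, hu, hu1, hur, huτ⟩ := exists_fixed_x hp cs hk r hn0 hg ha hwa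
  obtain ⟨v, hv, hS⟩ := exists_swap hp cs hk r ha hu hu1
  have hvτ : tau D k r n g v = v := hS.fix hu hv (tau_surjective r) (tau_X hp cs hk r hg ha hwa)
    (fun y hy => (tau_X hp cs hk r hg hna hwna y).2 hy) huτ
  have hvr : v ^ r = 1 := X_pow hp cs r hna hv
  have htu : t.1 * u = u * t.1 := comm_X hp cs hk r htT ha hca hu
  have htv : t.1 * v = v * t.1 := comm_X hp cs hk r htT hna hcna hv
  -- in the finite group
  have hcp : ∀ (y : ↥(D.group k)) (j : ℕ), (z * y * z⁻¹) ^ j = z * y ^ j * z⁻¹ := fun y j => conj_pow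
  obtain ⟨x, hx⟩ := mem_of_pow hp f r hn hB hd (fix_of_tau r hz htau) (m := ℓ)
    (by rw [hcp, htℓ]; group) (hcop _ hℓc)
  obtain ⟨u', hu'⟩ := mem_of_pow hp f r hn hB hd (fix_of_tau r hz huτ) (m := r)
    (by rw [hcp, hur]; group) (hcop _ hrc)
  obtain ⟨v', hv'⟩ := mem_of_pow hp f r hn hB hd (fix_of_tau r hz hvτ) (m := r)
    (by rw [hcp, hvr]; group) (hcop _ hrc)
  have hco : ∀ y : ↥(D.group k), orderOf (z * y * z⁻¹) = orderOf y := fun y => by
    have h1 : z * y * z⁻¹ = MulAut.conj z y := rfl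
    rw [h1, MulEquiv.orderOf_eq]
  have hor : ∀ y : ↥(D.group F), orderOf (emb hp.inList f y) = orderOf y := fun y => orderOf_injective _ hinj y
  have huv : emb hp.inList f (u' * v') = z * (u * v) * z⁻¹ := by
    rw [map_mul, hu', hv']; group
  refine ⟨x, u' * v', ?_, ?_, ?_⟩
  · rw [← hor, hx, hco, hto']
  · rw [← hor, huv, hco]
    subst hr2
    exact swap_order_three hS hu hu1 hv hur hvr
  · apply hinj
    have hm1 : emb hp.inList f (x * (u' * v')) = emb hp.inList f x * emb hp.inList f (u' * v') := map_mul _ _ _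
    have hm2 : emb hp.inList f (u' * v' * x) = emb hp.inList f (u' * v') * emb hp.inList f x := map_mul _ _ _
    rw [hm1, hm2, hx, huv]
    have h2 : t.1 * (u * v) = u * v * t.1 := by
      calc t.1 * (u * v) = t.1 * u * v := by group
        _ = u * (t.1 * v) := by rw [htu]; group
        _ = _ := by rw [htv]; group
    calc z * t.1 * z⁻¹ * (z * (u * v) * z⁻¹) = z * (t.1 * (u * v)) * z⁻¹ := by group
      _ = z * (u * v * t.1) * z⁻¹ := by rw [h2]
      _ = _ := by group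

end Main

theorem exists_three {d : ℕ} {B : Fin l → Fin l → ℤ} (hB : InvC D l d B) (hd : d ≠ 0) {F : Type u} [Field F] [Finite F]
    [CharP F 2] {w : W} {a : Fin l → ℤ} (ha : IsRoot cs hp.isCartan a) (hwa : rep cs hp.isCartan w a = a)
    {ℓ : ℕ} (hℓ : ℓ.Prime) (hℓq : ¬ ℓ ∣ Nat.card F - 1)
    (hy : ∃ y : Multiplicative (Co (rep cs hp.isCartan w - ((Nat.card F : ℕ) : ℤ) •
      (1 : Module.End ℤ (Fin l → ℤ)))), orderOf y = ℓ) :
    ∃ x y : ↥(D.group F), orderOf x = ℓ ∧ orderOf y = 3 ∧ Commute x y := by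
  obtain ⟨k, _, _, f, r, _, hc, n, hk, -, hn0, hn⟩ := exists_closure F
  have hrp : r = 2 := by
    have := charP_of_injective_ringHom f.injective 2
    exact CharP.eq k hc this
  exact exists_three_aux hp cs hk r f hn0 hn hB hd hrp ha hwa hℓ hℓq hy

variable [Finite W]

include hp cs in
/-- **Adjacency to `3` from a row**, `p = 2`. -/
theorem adj_three_row {d : ℕ} {B : Fin l → Fin l → ℤ} (hB : InvC D l d B) (hd0 : d ≠ 0) {A : Mat l}
    (hA : ∀ i j, A i j = cartanOf D l i j) {L : List (Fin l × Mat l)} {r : ℕ} (hr : r < D.nroots)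
    {f : ℕ} {c : Fin (f + 1) → ℤ} {V : Fin (f + 1) → Fin l → ℤ} {U : Fin l → ℤ}
    (h : AdjTab.RowOK A L (vec D l r) c V U) {F : Type u} [Field F] [Finite F] [CharP F 2] {ℓ : ℕ} (hℓ : ℓ.Prime)
    (hℓ3 : ℓ ≠ 3)
    (hℓq : ¬ ℓ ∣ Nat.card F - 1) (hdv : (ℓ : ℤ) ∣ pv c (Nat.card F : ℕ)) : H94.PG.Adj ↥(D.group F) ℓ 3 := by
  obtain ⟨h1, h2, h3⟩ := h
  obtain ⟨x, y, hx, hy, hc⟩ := exists_three hp cs hB hd0 (isRoot_vec hp cs hr) (AdjTab.fixes_of_row hp cs hA h1 h2)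
    hℓ hℓq (AdjTab.exists_order_row hp cs hA h1 h3 Finite.one_lt_card hℓ.pos hdv)
  exact ⟨hℓ, Nat.prime_three, hℓ3, x, y, hx, hy, hc⟩

include hp cs in
/-- **Adjacency to `p` from a row.** -/
theorem adj_char_row {d : ℕ} {B : Fin l → Fin l → ℤ} (hB : InvC D l d B) (hd0 : d ≠ 0) {A : Mat l}
    (hA : ∀ i j, A i j = cartanOf D l i j) {L : List (Fin l × Mat l)} {r : ℕ} (hr : r < D.nroots)
    {f : ℕ} {c : Fin (f + 1) → ℤ} {V : Fin (f + 1) → Fin l → ℤ} {U : Fin l → ℤ}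
    (h : AdjTab.RowOK A L (vec D l r) c V U) {F : Type u} [Field F] [Finite F] {ℓ : ℕ} (hℓ : ℓ.Prime)
    {p : ℕ} [Fact p.Prime] [CharP F p] (hℓp : ℓ ≠ p)
    (hℓq : ¬ ℓ ∣ Nat.card F - 1) (hdv : (ℓ : ℤ) ∣ pv c (Nat.card F : ℕ)) : H94.PG.Adj ↥(D.group F) ℓ p := by
  obtain ⟨x, u, n, hx, hu, -, hc, -⟩ := AdjTab.exists_comm_row hp cs hB hd0 hA hr h hℓ hℓq hdv (p := p)
  exact ⟨hℓ, Fact.out, hℓp, x, u, hx, hu, hc⟩

section Split

variable {F : Type u} [Field F] [Finite F]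

include hp cs in
/-- **Primes dividing `q - 1`**: adjacency to the characteristic, and to 3 in characteristic 2. -/
theorem exists_split {j : Fin l} {r s : ℕ} (h : Orth D l j r s) {ℓ : ℕ} (hℓ : ℓ.Prime) (hℓ2 : ℓ ≠ 2)
    (hℓq : ℓ ∣ Nat.card F - 1) {p : ℕ} [Fact p.Prime] [CharP F p] : ∃ x u : ↥(D.group F), orderOf x = ℓ ∧
      orderOf u = p ∧ Commute x u ∧ (p = 2 → ∃ y, orderOf y = 3 ∧ Commute x y) := by
  have : Fact ℓ.Prime := ⟨hℓ⟩
  obtain ⟨ζ, hζ⟩ := exists_prime_orderOf_dvd_card' (G := Fˣ) ℓ (by rw [Nat.card_units]; exact hℓq)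
  have ha : (ζ : F) ≠ 0 := ζ.ne_zero
  have hm : (ζ : F) ^ ℓ = 1 := by
    rw [← Units.val_pow_eq_pow_val, ← hζ, pow_orderOf_eq_one, Units.val_one]
  have hk := locFin_of_finite F
  have C := coordsL hp cs hk p
  have hr : IsRoot cs hp.isCartan (vec D l r) := isRoot_vec hp cs h.hr
  have hu : xc hp (vec D l r) (1 : F) ∈ XX D l F (vec D l r) := (mem_XX hp h.hr).2 ⟨1, rfl⟩
  have hu1 : xc hp (vec D l r) (1 : F) ≠ 1 := (C.coord _ hr).ne_one one_ne_zero
  obtain ⟨v, hv, hS⟩ := exists_swap hp cs hk p hr hu hu1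
  have hT := hc_mem hp j ha
  have h1 : hc hp j (ζ : F) * xc hp (vec D l r) 1 = xc hp (vec D l r) 1 * hc hp j (ζ : F) := by
    have h2 := (C.coord _ hr).act _ hT 1
    rw [ch_hc hp j ha h.hr, h.zero, zpow_zero, one_mul] at h2
    exact mul_inv_eq_iff_eq_mul.1 h2
  have h2 : hc hp j (ζ : F) * v = v * hc hp j (ζ : F) := by
    obtain ⟨s', rfl⟩ := ((C.coord _ hr.neg).mem v).1 hv
    have h3 := (C.coord _ hr.neg).act _ hT s'
    rw [ch_neg hp h.hr j ha h.zero, one_mul] at h3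
    exact mul_inv_eq_iff_eq_mul.1 h3
  have hur := X_pow hp cs p hr hu
  have hvr := X_pow hp cs p hr.neg hv
  refine ⟨hc hp j (ζ : F), xc hp (vec D l r) 1, ?_, orderOf_eq_prime hur hu1, h1, fun hp2 => ?_⟩
  · refine orderOf_eq_prime (hc_pow_eq_one hp j ha hm) ?_
    refine hc_ne_one hp j ha (simple_lt hp.inList (lt_rank hp j)) ?_
    have h2 : D.cartan j (D.simple j) = 2 := by
      have h3 := pairing_vec hp j (simple_lt hp.inList (lt_rank hp j))
      rw [vec_simple hp j] at h3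
      rw [← h3]
      unfold CoxeterGeom.pairing
      rw [Finset.sum_eq_single j]
      · rw [sr_self, mul_one]
        exact hp.isCartan.diag j
      · intro i _ hi
        rw [sr_ne hi, mul_zero]
      · intro hj
        exact absurd (Finset.mem_univ j) hj
    rw [h2]
    intro h3
    have h4 : ζ ^ 2 = 1 := Units.ext (by
      rw [Units.val_pow_eq_pow_val, Units.val_one]
      exact_mod_cast h3)
    have h5 := orderOf_dvd_of_pow_eq_one h4
    rw [hζ] at h5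
    exact hℓ2 ((Nat.prime_dvd_prime_iff_eq hℓ Nat.prime_two).1 h5)
  · subst hp2
    exact ⟨xc hp (vec D l r) 1 * v, swap_order_three hS hu hu1 hv hur hvr, (Commute.mul_right h1 h2)⟩

end Split

end Cfsg.Agent.H632.Der
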