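import Cfsg.Agent.H632.Der.Count
import Cfsg.Agent.H632.Der.Eig
import Cfsg.Agent.H632.Der.ThreeRow
import Cfsg.Agent.H378.ExcNear
import Cfsg.Agent.H436.Ppd

/-!
# `NTC` from the prime graph (helper632)
-/

set_option autoImplicit false

namespace Cfsg.Agent.H632.Der

open Cfsg.Agent.H439.Der Cfsg.Agent.H378.ExcAdj
open Cfsg.Agent.H436 (Prim exists_prim)

theorem od_of_prim {q e r : ℕ} (hq : 1 ≤ q) (h : Prim q e r) : od q r = e := by
  refine Nat.dvd_antisymm (od_dvd hq ((h.dvd_iff e).2 dvd_rfl)) ?_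
  rw [← h.dvd_iff]
  exact dvd_of_od_dvd hq dvd_rfl

theorem prim_of_od {q e r : ℕ} (hq : 1 ≤ q) (hr : r.Prime) (he : 0 < e) (h : od q r = e) : Prim q e r := by
  refine ⟨hr, fun m => ⟨fun h1 => h ▸ od_dvd hq h1, fun h1 => dvd_of_od_dvd hq (by rw [h]; exact h1)⟩, fun h1 => ?_⟩
  have h2 : r ∣ q ^ e - 1 := dvd_of_od_dvd hq (by rw [h])
  have h3 : 1 ≤ q ^ e := Nat.one_le_pow _ _ hq
  have h4 := Nat.dvd_sub (dvd_pow h1 he.ne') h2
  have e1 : q ^ e - (q ^ e - 1) = 1 := by omega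
  rw [e1] at h4
  exact hr.one_lt.ne' (Nat.dvd_one.1 h4)

/-- an auxiliary prime dividing `q² + 1` -/
theorem exists_four {q : ℕ} (hq : 2 ≤ q) : ∃ r, r.Prime ∧ 5 ≤ r ∧ ¬ r ∣ q ∧ od q r = 4 := by
  obtain ⟨r, hr⟩ := exists_prim (q := q) (e := 4) hq (by norm_num) (by norm_num)
  have h1 := od_of_prim (by omega) hr
  refine ⟨r, hr.prime, ?_, hr.not_dvd, h1⟩
  have h2 := H378.ExcNear.mod_of_od hr.prime h1 (by norm_num)
  have h3 := hr.prime.two_le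
  have h4 := Nat.le_of_dvd (by omega) h2
  omega

/-- **`NTC` from the prime graph.** -/
theorem ntc_of {G : Type*} [Group G] [Finite G] {p l : ℕ} (h5 : 5 ≤ l) (hlp : l ≠ p)
    (h32 : H94.PG.Adj G 3 2) (hl2 : H94.PG.Adj G l 2) (hlp' : p ≠ 2 → H94.PG.Adj G l p)
    (hl3 : p = 2 → H94.PG.Adj G l 3) (hp2 : p ≠ 2 → H94.PG.Adj G p 2)
    (H : ∀ v, v.Prime → v ∣ Nat.card G → v ≠ 2 → v ≠ p →
      (H94.PG.Adj G v 2 ∧ (p ≠ 2 → H94.PG.Adj G v p) ∧ (p = 2 → v ≠ 3 → H94.PG.Adj G v 3)) ∨ ¬ SCC G v) : NTC G := by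
  intro v hv hd
  by_cases hv2 : v = 2
  · subst hv2
    exact not_SCC_of_two_adj h32.symm hl2.symm (by omega)
  by_cases hvp : v = p
  · subst hvp
    exact not_SCC_of_two_adj (hp2 hv2) (hlp' hv2).symm (by omega)
  rcases H v hv hd hv2 hvp with ⟨h1, h2, h3⟩ | h
  · by_cases hp : p = 2
    · by_cases hv3 : v = 3
      · subst hv3
        exact not_SCC_of_two_adj h1 (hl3 hp).symm (by omega)
      · exact not_SCC_of_two_adj h1 (h3 hp hv3) (by norm_num)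
    · exact not_SCC_of_two_adj h1 (h2 hp) (Ne.symm hp)
  · exact h

end Cfsg.Agent.H632.Der
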