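import Cfsg.Agent.H81.DerCert
import Cfsg.Agent.H632.Der.ThreeRow
import Cfsg.Agent.H632.Der.Ntc

/-!
# `CentRoot m ℓ` and the prime graph (S3502, helper632)

* `adj_of_centRoot` : `CentRoot m ℓ`, `ℓ ≠ r` : `ℓ` is adjacent to `r`, to `2` (`r ≠ 2`) and to `3` (`r = 2`)
* `ntc_of_centRoot`
-/

set_option autoImplicit false
set_option linter.unusedSectionVars false

namespace Cfsg.Agent.H632.Der

open CoxeterSystem Cfsg Cfsg.Lie Cfsg.Lie.ChevalleyDatum
open Cfsg.Agent.ChevalleyStructure Cfsg.Agent.ChevalleyStructure.Elts Cfsg.Agent.ChevalleyStructure.CoxeterGeom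
  Cfsg.Agent.ChevalleyStructure.CoxeterGeomTypes Cfsg.Agent.ChevalleyStructure.NPerm
open Cfsg.Agent.Tits.Roots Cfsg.Agent.Tits.Core Cfsg.Agent.Nodes Cfsg.Agent.Nodes.Reps Cfsg.Agent.Nodes.BNOf
  Cfsg.Agent.Nodes.RGDChev
open Cfsg.Agent.KFacts.RgdChevCoord
open Cfsg.Agent.ChevalleyStructure.SL2Hom (up lo)
open Cfsg.Agent.Nodes.RGDFold Cfsg.Agent.Nodes.RGDFoldSL
open Cfsg.Agent.H469.Exc Cfsg.Agent.H469.Exc.SigFr Cfsg.Agent.H316.U6
open Cfsg.Agent.BpExc.LangFr Cfsg.Agent.H81.TorOrth Cfsg.Agent.H81.Der Cfsg.Agent.H439.Der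
open Cfsg.Agent.H378.RankOne
open Cfsg.Agent.ChevalleyStructure.HMatDiagAll (expo)

universe u v

theorem up_lo_pow_three {k : Type*} [Field k] (h2 : (2 : k) = 0) {b : k} (hb : b ≠ 0) :
    (up b * lo (-b⁻¹)) ^ 3 = (1 : Matrix.SpecialLinearGroup (Fin 2) k) := by
  apply Subtype.ext
  have e : ((up b * lo (-b⁻¹) : Matrix.SpecialLinearGroup (Fin 2) k) : Matrix (Fin 2) (Fin 2) k) =
      !![0, b; -b⁻¹, 1] := by
    rw [Matrix.SpecialLinearGroup.coe_mul]
    show (!![1, b; 0, 1] : Matrix (Fin 2) (Fin 2) k) * !![1, 0; -b⁻¹, 1] = _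
    ext i j
    fin_cases i <;> fin_cases j <;> simp [Matrix.mul_apply, Fin.sum_univ_two, hb]
  have h1 : (-1 : k) = 1 := by linear_combination -h2
  rw [Matrix.SpecialLinearGroup.coe_pow, e, Matrix.SpecialLinearGroup.coe_one, pow_succ, pow_two]
  have hbb : b + b = 0 := by linear_combination b * h2
  have h11 : (1 : k) + 1 = 0 := by linear_combination h2
  ext i j
  fin_cases i <;> fin_cases j <;> simp [Matrix.mul_apply, Fin.sum_univ_two, hb, h1, hbb, h11]

variable {D : ChevalleyDatum} {l : ℕ} {M : CoxeterMatrix (Fin l)} {hp : IsType D l M} {r q : ℕ}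
  [hr : Fact r.Prime] {K₀ : Type v} [Group K₀] (m : MData hp r q K₀)

/-- an element commuting with the fixed points of the root groups `±θ`, and `(a a' a)²`, `a a'` -/
theorem adj_of_centRoot [Finite K₀] {t : ℕ} (ht : t < D.nroots) (hodd : Odd (expo D (D.nroots - 1) t))
    {ℓ : ℕ} (hℓ : ℓ.Prime) (hℓr : ℓ ≠ r) (h : CentRoot m ℓ) :
    H94.PG.Adj K₀ ℓ r ∧ (r ≠ 2 → ℓ ≠ 2 → H94.PG.Adj K₀ ℓ 2) ∧ (r = 2 → ℓ ≠ 3 → H94.PG.Adj K₀ ℓ 3) := by
  obtain ⟨x, hx, hc⟩ := h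
  have hD := nroots_pos' hp.inList
  have hs : D.nroots - 1 < D.nroots := by omega
  obtain ⟨b, hb, ⟨a, ha⟩, ⟨a', ha'⟩⟩ := exists_b m hs m.top
  have haX : m.ι a ∈ XX D l (KK r) (vec D l (D.nroots - 1)) := by
    rw [ha]
    exact (Cfsg.Agent.LangThm.mem_XX_vec hp hs).2 ⟨b, rfl⟩
  have haX' : m.ι a' ∈ XX D l (KK r) (-vec D l (D.nroots - 1)) := by
    rw [ha', ← vec_neg hp hs]
    exact (Cfsg.Agent.LangThm.mem_XX_vec hp (neg_lt hp.inList hs)).2 ⟨_, rfl⟩
  have c1 : Commute x a := m.inj (by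
    rw [map_mul, map_mul]
    exact (hc (m.ι a) (m.fix a) (Or.inl haX)).symm)
  have c2 : Commute x a' := m.inj (by
    rw [map_mul, map_mul]
    exact (hc (m.ι a') (m.fix a') (Or.inr haX')).symm)
  have ha1 : m.ι a ≠ 1 := by
    rw [ha]
    intro h
    exact hb ((xG_eq_one_iff hp.inList hs b).1 (congrArg Subtype.val h))
  have hor : orderOf a = r := by
    refine orderOf_eq_prime (m.inj ?_) ?_
    · rw [map_pow, ha, map_one]
      exact xs_pow_r (hp := hp) _ _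
    · rintro rfl
      exact ha1 (map_one _)
  refine ⟨⟨hℓ, hr.out, hℓr, x, a, hx, hor, c1⟩, fun hr2 hℓ2 => ?_, fun hr2 hℓ3 => ?_⟩
  · -- `(a a' a)²`
    have hxι : m.ι ((a * a' * a) * (a * a' * a)) = ps hp hs (hS (-1 : KK r)) := by
      rw [← sq_eq hb]
      simp only [map_mul, ha, ha', ps_up, ps_lo]
    have h1 : (-1 : KK r) ≠ 1 := by
      intro h
      have h2 : (2 : KK r) = 0 := by
        calc (2 : KK r) = 1 + 1 := by norm_num
          _ = 1 + -1 := by rw [h]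
          _ = 0 := by ring
      have h3 : ((2 : ℕ) : KK r) = 0 := by exact_mod_cast h2
      rw [CharP.cast_eq_zero_iff (KK r) r] at h3
      exact hr2 ((Nat.prime_dvd_prime_iff_eq hr.out Nat.prime_two).1 h3)
    have h2 : orderOf ((a * a' * a) * (a * a' * a)) = 2 := by
      refine orderOf_eq_prime (m.inj ?_) ?_
      · rw [map_pow, hxι, map_one]
        apply Subtype.ext
        rw [Subgroup.coe_pow, coe_ps_hS]
        exact Cfsg.Agent.KFacts.Mult.Chev.hG_pow hp.inList hs (neg_ne_zero.2 one_ne_zero) (by norm_num)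
      · intro h0
        rw [h0, map_one] at hxι
        have h4 := congrArg (fun y : ↥(D.group (KK r)) => ((y : GL D.Idx (KK r)) : Matrix D.Idx D.Idx (KK r))
          (Sum.inr ⟨t, ht⟩) (Sum.inr ⟨t, ht⟩)) hxι
        have h5 := entry hp hs (neg_ne_zero.2 (one_ne_zero (α := KK r))) 1
        rw [pow_one] at h5
        simp only [h5, Matrix.diagonal_apply_eq, Sum.elim_inr, pow_one] at h4
        rw [show (((1 : ↥(D.group (KK r))) : GL D.Idx (KK r)) : Matrix D.Idx D.Idx (KK r)) = 1 from rfl,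
          Matrix.one_apply_eq, hodd.neg_one_zpow] at h4
        exact h1 h4.symm
    exact ⟨hℓ, Nat.prime_two, hℓ2, x, _, hx, h2, ((c1.mul_right c2).mul_right c1).mul_right
      ((c1.mul_right c2).mul_right c1)⟩
  · -- `a a'`
    subst hr2
    have h2 : (2 : KK 2) = 0 := by
      have := CharP.cast_eq_zero (KK 2) 2
      exact_mod_cast this
    have hι : m.ι (a * a') = ps hp hs (up b * lo (-b⁻¹)) := by
      simp only [map_mul, ha, ha', ps_up, ps_lo]
    have h3 : (a * a') ^ 3 = 1 := by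
      apply m.inj
      rw [map_pow, hι, ← map_pow, up_lo_pow_three h2 hb, map_one, map_one]
    have h1 : a * a' ≠ 1 := by
      intro h1
      have hroot : IsRoot M.toCoxeterSystem hp.isCartan (vec D l (D.nroots - 1)) := isRoot_vec hp _ hs
      obtain ⟨v, hv, hS⟩ := exists_swap hp M.toCoxeterSystem (locFin 2) 2 hroot haX ha1
      have h4 : m.ι a ∈ XX D l (KK 2) (-vec D l (D.nroots - 1)) := by
        have h5 : a = a'⁻¹ := eq_inv_of_mul_eq_one_left h1
        rw [h5, map_inv]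
        exact inv_mem haX'
      exact ha1 (hS.nor _ h4 fun y hy => mul_mem (mul_mem haX hy) (inv_mem haX))
    have := Fact.mk Nat.prime_three
    exact ⟨hℓ, Nat.prime_three, hℓ3, x, a * a', hx, orderOf_eq_prime h3 h1, c1.mul_right c2⟩

/-- **`NTC` from `CentRoot`.** -/
theorem ntc_of_centRoot [Finite K₀] {t : ℕ} (ht : t < D.nroots) (hodd : Odd (expo D (D.nroots - 1) t))
    (h3 : r ≠ 3 → CentRoot m 3) {ℓ : ℕ} (hℓ : ℓ.Prime) (h5 : 5 ≤ ℓ) (hℓr : ℓ ≠ r) (hl : CentRoot m ℓ)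
    (H : ∀ v, v.Prime → v ∣ Nat.card K₀ → v ≠ 2 → v ≠ r → CentRoot m v ∨ ¬ SCC K₀ v) : NTC K₀ := by
  have hr2 : r ≠ 2 → H94.PG.Adj K₀ r 2 := fun h =>
    (adj_of_centRoot m ht hodd Nat.prime_two (Ne.symm h) (centRoot_two m h ht hodd)).1.symm
  have h32 : H94.PG.Adj K₀ 3 2 := by
    by_cases hr3 : r = 3
    · subst hr3
      exact hr2 (by norm_num)
    · obtain ⟨h1, h2, -⟩ := adj_of_centRoot m ht hodd Nat.prime_three (Ne.symm hr3) (h3 hr3)
      by_cases hr2' : r = 2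
      · subst hr2'
        exact h1
      · exact h2 hr2' (by norm_num)
  obtain ⟨l1, l2, l3⟩ := adj_of_centRoot m ht hodd hℓ hℓr hl
  have key : ∀ {w : ℕ}, H94.PG.Adj K₀ w r → (r ≠ 2 → w ≠ 2 → H94.PG.Adj K₀ w 2) → w ≠ 2 → H94.PG.Adj K₀ w 2 := by
    intro w h1 h2 hw
    by_cases hr2' : r = 2
    · rw [hr2'] at h1
      exact h1
    · exact h2 hr2' hw
  refine ntc_of (p := r) h5 hℓr h32 (key l1 l2 (by omega)) (fun _ => l1) (fun h => l3 h (by omega)) hr2 ?_
  intro v hv hd hv2 hvr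
  rcases H v hv hd hv2 hvr with h | h
  · obtain ⟨a1, a2, a3⟩ := adj_of_centRoot m ht hodd hv hvr h
    exact Or.inl ⟨key a1 a2 hv2, fun _ => a1, fun h h' => a3 h h'⟩
  · exact Or.inr h

end Cfsg.Agent.H632.Der
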