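import Cfsg.Agent.H632.Der.Rows
import Cfsg.Agent.H378.AdjE7

/-!
# A Weyl group element of type E7 with characteristic polynomial `Φ₁₂ Φ₆ Φ₂` (helper632)
-/

set_option autoImplicit false
set_option linter.unusedSectionVars false

namespace Cfsg.Agent.H632.Der.E7Tor

open Cfsg.Agent.H378 Cfsg.Agent.H378.AdjE7
open Cfsg.Agent.H129.WData Cfsg.Agent.H378.AdjTab Cfsg.Agent.H378.CycTab Cfsg.Agent.H493.PGTorus
open Cfsg.Agent.ChevalleyStructure.CoxeterGeomTypes Cfsg.Agent.Nodes.RGDChev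
open Cfsg.Lie Cfsg.Lie.ChevalleyDatum

/-- the partial products -/
def T12b : List (Fin 7 × Mat 7) := [
    (0, ![![0, 0, 1, 1, 0, 0, 0],
        ![-1, -1, -1, -2, -1, -1, -1],
        ![0, 0, 0, 0, 1, 1, 1],
        ![1, 1, 1, 2, 1, 0, 0],
        ![0, 0, 0, -1, -1, 0, 0],
        ![-1, 0, -1, 0, 0, 0, 0],
        ![1, 0, 1, 1, 1, 1, 0]]),
    (3, ![![1, 0, 1, 1, 0, 0, 0],
        ![0, -1, -1, -2, -1, -1, -1],
        ![0, 0, 0, 0, 1, 1, 1],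
        ![0, 1, 1, 2, 1, 0, 0],
        ![0, 0, 0, -1, -1, 0, 0],
        ![0, 0, -1, 0, 0, 0, 0],
        ![0, 0, 1, 1, 1, 1, 0]]),
    (2, ![![1, 0, 1, 0, 0, 0, 0],
        ![0, -1, -1, -1, -1, -1, -1],
        ![0, 0, 0, 1, 1, 1, 1],
        ![0, 1, 1, 1, 1, 0, 0],
        ![0, 0, 0, 0, -1, 0, 0],
        ![0, 0, -1, -1, 0, 0, 0],
        ![0, 0, 1, 1, 1, 1, 0]]),
    (4, ![![1, 0, 0, 0, 0, 0, 0],
        ![0, -1, 0, -1, -1, -1, -1],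
        ![0, 0, 1, 1, 1, 1, 1],
        ![0, 1, 0, 1, 1, 0, 0],
        ![0, 0, 0, 0, -1, 0, 0],
        ![0, 0, 0, -1, 0, 0, 0],
        ![0, 0, 0, 1, 1, 1, 0]]),
    (6, ![![1, 0, 0, 0, 0, 0, 0],
        ![0, -1, 0, -1, -1, -1, -1],
        ![0, 0, 1, 1, 1, 1, 1],
        ![0, 1, 0, 1, 0, 0, 0],
        ![0, 0, 0, 0, 1, 0, 0],
        ![0, 0, 0, -1, -1, 0, 0],
        ![0, 0, 0, 1, 1, 1, 0]]),
    (3, ![![1, 0, 0, 0, 0, 0, 0],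
        ![0, -1, 0, -1, -1, -1, 0],
        ![0, 0, 1, 1, 1, 1, 0],
        ![0, 1, 0, 1, 0, 0, 0],
        ![0, 0, 0, 0, 1, 0, 0],
        ![0, 0, 0, -1, -1, 0, 0],
        ![0, 0, 0, 1, 1, 1, 1]]),
    (5, ![![1, 0, 0, 0, 0, 0, 0],
        ![0, -1, 0, -1, -1, -1, 0],
        ![0, 0, 1, 1, 1, 1, 0],
        ![0, 1, 0, 0, 0, 0, 0],
        ![0, 0, 0, 1, 1, 0, 0],
        ![0, 0, 0, 0, -1, 0, 0],
        ![0, 0, 0, 0, 1, 1, 1]]),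
    (4, ![![1, 0, 0, 0, 0, 0, 0],
        ![0, -1, 0, -1, -1, 0, 0],
        ![0, 0, 1, 1, 1, 0, 0],
        ![0, 1, 0, 0, 0, 0, 0],
        ![0, 0, 0, 1, 1, 1, 0],
        ![0, 0, 0, 0, -1, -1, 0],
        ![0, 0, 0, 0, 1, 1, 1]]),
    (5, ![![1, 0, 0, 0, 0, 0, 0],
        ![0, -1, 0, -1, 0, 0, 0],
        ![0, 0, 1, 1, 0, 0, 0],
        ![0, 1, 0, 0, 0, 0, 0],
        ![0, 0, 0, 1, 1, 1, 0],
        ![0, 0, 0, 0, 0, -1, 0],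
        ![0, 0, 0, 0, 0, 1, 1]]),
    (3, ![![1, 0, 0, 0, 0, 0, 0],
        ![0, -1, 0, -1, 0, 0, 0],
        ![0, 0, 1, 1, 0, 0, 0],
        ![0, 1, 0, 0, 0, 0, 0],
        ![0, 0, 0, 1, 1, 0, 0],
        ![0, 0, 0, 0, 0, 1, 0],
        ![0, 0, 0, 0, 0, 0, 1]]),
    (1, ![![1, 0, 0, 0, 0, 0, 0],
        ![0, -1, 0, 0, 0, 0, 0],
        ![0, 0, 1, 0, 0, 0, 0],
        ![0, 1, 0, 1, 0, 0, 0],
        ![0, 0, 0, 0, 1, 0, 0],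
        ![0, 0, 0, 0, 0, 1, 0],
        ![0, 0, 0, 0, 0, 0, 1]])]

theorem chain12b : ChainOK Am T12b := by decide +kernel

/-- the eigenvector -/
def V12b_12 : Fin (3 + 1) → Fin 7 → ℤ := ![![1, 1, 0, 1, 2, 1, 1],
      ![-1, 0, 1, 1, 0, 0, 0],
      ![1, 0, 1, 0, -1, 0, -1],
      ![0, 0, -1, 0, 1, 0, 1]]

/-- the functional -/
def U12b_12 : Fin 7 → ℤ := ![0, 0, 0, 0, 0, 1, 0]

theorem tor12b_12 : EigOK (hd T12b) c12 V12b_12 U12b_12 := by decide +kernel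

/-- the eigenvector -/
def V12b_2 : Fin (0 + 1) → Fin 7 → ℤ := ![![0, -1, 0, 0, 1, 0, -1]]

/-- the functional -/
def U12b_2 : Fin 7 → ℤ := ![0, -1, 0, 0, 0, 0, 0]

theorem tor12b_2 : EigOK (hd T12b) c2 V12b_2 U12b_2 := by decide +kernel

/-- the eigenvector -/
def V12b_6 : Fin (1 + 1) → Fin 7 → ℤ := ![![0, 1, 0, 2, 1, 1, 0],
      ![0, -1, 0, -1, 0, 1, 1]]

/-- the functional -/
def U12b_6 : Fin 7 → ℤ := ![0, 0, 0, 0, 1, 0, 0]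

theorem tor12b_6 : EigOK (hd T12b) c6 V12b_6 U12b_6 := by decide +kernel


end Cfsg.Agent.H632.Der.E7Tor
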