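import Cfsg.Agent.H632.Der.NtcE7a

/-!
# S3502: no prime is `SCC` for `E₇(q)` (helper632)
-/

set_option autoImplicit false

namespace Cfsg.Agent.H632.Der

open Subgroup Cfsg.Agent.H439.Der Cfsg.Agent.H473.Der Cfsg.Agent.H504.ZeroTI Cfsg.Agent.H504.Zeros

universe u

variable {T : Type u} [Group T] [Finite T]

omit [Finite T] in
/-- A cyclic subgroup of order `N`, divisible by `r`: the centralizer of its elements of order `r`. -/
def Tcc (T : Type u) [Group T] (r N : ℕ) : Prop :=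
  ∃ C : Subgroup T, IsCyclic C ∧ Nat.card C = N ∧ r ∣ N ∧ ∀ y ∈ C, orderOf y = r → Subgroup.centralizer ({y} : Set T) = C

omit [Finite T] in
theorem Tcc.of_cyc {C : Subgroup T} (hc : IsCyclic C) {r : ℕ} (hrC : r ∣ Nat.card C)
    (hcent : ∀ y ∈ C, orderOf y = r → Subgroup.centralizer ({y} : Set T) ≤ C) : Tcc T r (Nat.card C) :=
  ⟨C, hc, rfl, hrC, fun y hy hyr => le_antisymm (hcent y hy hyr) (H129.CycT.le_centralizer_of_cyclic hc hy)⟩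

theorem not_SCC_of_tcc {v P c o : ℕ} (hT : Tcc T v P) (hv : v.Prime) (hc : ∀ x : T, orderOf x = v → Nat.card (conjPow x) ≤ c)
    (hO : Nat.card (Cfsg.Out T) ≤ o) (h15 : 15 ≤ v) (hlt : 15 * (o * c) < 7 * P) : ¬ SCC T v := by
  obtain ⟨A, hA, hN, hvN, hC⟩ := hT
  refine not_SCC_of_count hv hA hN hvN hC (fun x _ hx => hc x hx) hO ?_
  have h1 : 14 * (v * (2 * (o * c))) ≤ (15 * (o * c)) * (2 * (v - 1)) := by
    obtain ⟨t, rfl⟩ := Nat.exists_eq_add_of_le h15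
    have e : 15 + t - 1 = 14 + t := by omega
    rw [e]
    nlinarith [Nat.zero_le (t * (o * c))]
  have h2 : (15 * (o * c)) * (2 * (v - 1)) < (7 * P) * (2 * (v - 1)) := Nat.mul_lt_mul_of_pos_right hlt (by omega)
  have h3 : (7 * P) * (2 * (v - 1)) = 14 * (P * (v - 1)) := by ring
  omega

theorem not_SCC_of_tcc' {v P o : ℕ} (hT : Tcc T v P) (hv : v.Prime)
    (hO : Nat.card (Cfsg.Out T) ≤ o) (hlt : v * (2 * o) < P) : ¬ SCC T v := by
  obtain ⟨A, hA, hN, hvN, hC⟩ := hT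
  refine not_SCC_of_count hv hA hN hvN hC (fun x _ hx => card_conjPow_le_sub_one hv hx) hO ?_
  have hv2 := hv.two_le
  calc v * (2 * (o * (v - 1))) = v * (2 * o) * (v - 1) := by ring
    _ < P * (v - 1) := Nat.mul_lt_mul_of_pos_right hlt (by omega)

theorem not_SCC_of_exact {a e o : ℕ} (ha : a.Prime) (h : H129.CycT.CycExact T a) (hea : e < a) {N : ℤ}
    (hN : (Nat.card T : ℤ) = a * N) (hmod : ((N : ℤ) : ZMod a) = e) (hO : Nat.card (Cfsg.Out T) ≤ o)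
    (hlt : 2 * (o * e) < a - 1) : ¬ SCC T a := by
  obtain ⟨A, hAc, hc, hz⟩ := h
  have hA := cc_of_cyclic hAc hz
  have he := eIdx_of_int hA hc hea ha.one_lt hN hmod
  have hne : ∀ x : T, orderOf x = a → x ≠ 1 := by
    rintro x hx rfl
    rw [orderOf_one] at hx
    exact ha.one_lt.ne hx
  exact not_SCC_of_count ha hAc hc dvd_rfl (fun x hx hxo => hz x hx (hne x hxo))
    (fun x hx hxo => (card_conjPow_le_eIdx hA hx (hne x hxo)).trans he.le) hO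
    (Nat.mul_lt_mul_of_pos_left hlt ha.pos)

end Cfsg.Agent.H632.Der

namespace Cfsg.Agent.H632.Der.E7

open Cfsg Cfsg.Lie Cfsg.Lie.ChevalleyDatum Cfsg.Agent.H290.ElMain Cfsg.Agent.H290.ElE7
open Cfsg.Agent.H436 (Prim exists_prim)
open Cfsg.Agent.ChevalleyStructure Cfsg.Agent.ChevalleyStructure.Elts Cfsg.Agent.ChevalleyStructure.CoxeterGeom
  Cfsg.Agent.ChevalleyStructure.CoxeterGeomTypes Cfsg.Agent.ChevalleyStructure.NPerm
open Cfsg.Agent.Nodes.RGDChev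
open Cfsg.Agent.H129 Cfsg.Agent.H129.CycT Cfsg.Agent.H129.TorusChar Cfsg.Agent.H129.TorusTw Cfsg.Agent.H129.WData
  Cfsg.Agent.H129.TorAct Cfsg.Agent.H129.RealT

variable {F : Type} [Field F] [Fintype F] {q : ℕ}

theorem tcc_of (hq : Fintype.card F = q) {A : Mat 7} (hA : ∀ i j, A i j = cartanOf chevE7 7 i j)
    {L : List (Fin 7 × Mat 7)} (hL : ChainOK A L)
    {V B : Mat 7} {c : Fin 7 → ℤ} (hcyc : CycOK 7 (hd L) V B c) {m : ℕ} {R : Fin m → Fin 7 → ℤ} {prv dep : ℕ → ℕ}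
    (hR : RootOK chevE7 7 (hd L) R prv dep) {N : ℕ} (hfN : fN c (q : ℤ) = N) (hqN : q.Coprime N) {r : ℕ}
    (hr : r.Prime) (hrN : r ∣ N) (hr2 : r ≠ 2)
    (hgood : ¬ r ∣ Nat.card CoxeterMatrix.E₇.Group ∧ ∀ s, ¬ (r : ℤ) ∣ Gq B (q : ℤ) (R s)) :
    Tcc ↥(chevE7.group F) r (N / Nat.gcd 2 (q - 1)) := by
  have := finite_W7
  have hq2 : 2 ≤ q := by rw [← hq]; exact Fintype.one_lt_card
  rcases Nat.even_or_odd q with he | ho
  · have hg : Nat.gcd 2 (q - 1) = 1 := by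
      rw [← Nat.coprime_iff_gcd_eq_one, Nat.coprime_comm, Nat.coprime_two_right]
      obtain ⟨k, hk⟩ := he
      exact ⟨k - 1, by omega⟩
    rw [hg, Nat.div_one]
    obtain ⟨T, h1, h2, h3, h4, -⟩ := UntwT.untw_T typeE7 CoxeterMatrix.E₇.toCoxeterSystem (by norm_num) hq
      TorusChar.invC_E7 (by norm_num) hA hL hcyc hR hfN hqN (d := 1) (Or.inr ⟨rfl, sq_surj hq he⟩)
    rw [one_mul] at h3
    have h6 : Nat.card T = N := Nat.dvd_antisymm h2 h3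
    rw [← h6]
    exact Tcc.of_cyc h1 (h6 ▸ hrN) (h4 r hr hgood.1 hgood.2)
  · have hg : Nat.gcd 2 (q - 1) = 2 := by
      refine Nat.gcd_eq_left ?_
      obtain ⟨k, hk⟩ := ho
      exact ⟨k, by omega⟩
    rw [hg]
    obtain ⟨T, h3, h4, h5, -⟩ := HalfT.half_E7 hq ho typeE7 hA hL hcyc hR hfN hqN
    have h6 : N / 2 = Nat.card T := by omega
    rw [h6]
    refine Tcc.of_cyc h3 ?_ (h5 r hr hgood.1 hgood.2)
    rw [← h4] at hrN
    exact (hr.dvd_mul.1 hrN).resolve_left fun h => hr2 ((Nat.prime_dvd_prime_iff_eq hr Nat.prime_two).1 h)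

theorem tcc7 (hq : Fintype.card F = q) : ∃ N : ℕ,
    (N : ℤ) = 1 + (q : ℤ) + (q : ℤ) ^ 2 + (q : ℤ) ^ 3 + (q : ℤ) ^ 4 + (q : ℤ) ^ 5 + (q : ℤ) ^ 6 ∧
      ∀ r, Prim q 7 r → Tcc ↥(chevE7.group F) r ((q - 1) * N / Nat.gcd 2 (q - 1)) := by
  have h2 : 2 ≤ q := hq ▸ Fintype.one_lt_card
  have hN := Int.toNat_of_nonneg (show (0 : ℤ) ≤ 1 + (q : ℤ) + (q : ℤ) ^ 2 + (q : ℤ) ^ 3 + (q : ℤ) ^ 4 + (q : ℤ) ^ 5 +
    (q : ℤ) ^ 6 by positivity)
  refine ⟨_, hN, fun r hr => ?_⟩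
  have hrN : r ∣ _ := dvd_of_id hr (by omega) (a := 1) (b := 1) (c := 1) (by decide) (by decide) (by decide)
    (by rw [hN]; exact ⟨((q : ℤ) - 1) ^ 2, by ring⟩)
  obtain ⟨k, hk⟩ := mod_of_prim hr (by omega)
  have := hr.prime.two_le
  have := hr.odd (by norm_num)
  obtain ⟨h3, h4⟩ := fN_7 h2 hN
  exact tcc_of hq DataE7s.hA DataE7s.chainOK DataE7s.cycOK DataE7s.rootOK h3 h4 hr.prime (hrN.mul_left _) (by omega)
    (good_E7_7 hN hr.prime hrN (by omega))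

theorem tcc9 (hq : Fintype.card F = q) : ∃ N : ℕ, (N : ℤ) = 1 + (q : ℤ) ^ 3 + (q : ℤ) ^ 6 ∧
      ∀ r, Prim q 9 r → Tcc ↥(chevE7.group F) r ((q - 1) * N / Nat.gcd 2 (q - 1)) := by
  have h2 : 2 ≤ q := hq ▸ Fintype.one_lt_card
  have hN := Int.toNat_of_nonneg (show (0 : ℤ) ≤ 1 + (q : ℤ) ^ 3 + (q : ℤ) ^ 6 by positivity)
  refine ⟨_, hN, fun r hr => ?_⟩
  have hrN : r ∣ _ := dvd_of_id hr (by omega) (a := 3) (b := 1) (c := 1) (by decide) (by decide) (by decide)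
    (by rw [hN]; exact ⟨((q : ℤ) - 1) ^ 2, by ring⟩)
  obtain ⟨k, hk⟩ := mod_of_prim hr (by omega)
  have := hr.prime.two_le
  have := hr.odd (by norm_num)
  obtain ⟨h3, h4⟩ := fN_9 h2 hN
  exact tcc_of hq DataE7n.hA DataE7n.chainOK DataE7n.cycOK DataE7n.rootOK h3 h4 hr.prime (hrN.mul_left _) (by omega)
    (good_E7_9 hN hr.prime hrN (by omega))

theorem tcc14 (hq : Fintype.card F = q) : ∃ N : ℕ,
    (N : ℤ) = 1 - (q : ℤ) + (q : ℤ) ^ 2 - (q : ℤ) ^ 3 + (q : ℤ) ^ 4 - (q : ℤ) ^ 5 + (q : ℤ) ^ 6 ∧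
      ∀ r, Prim q 14 r → Tcc ↥(chevE7.group F) r ((q + 1) * N / Nat.gcd 2 (q - 1)) := by
  have h2 : 2 ≤ q := hq ▸ Fintype.one_lt_card
  have hpos : (0 : ℤ) ≤ 1 - (q : ℤ) + (q : ℤ) ^ 2 - (q : ℤ) ^ 3 + (q : ℤ) ^ 4 - (q : ℤ) ^ 5 + (q : ℤ) ^ 6 := by
    obtain ⟨a, rfl⟩ := Nat.exists_eq_add_of_le' h2
    push_cast
    ring_nf
    positivity
  have hN := Int.toNat_of_nonneg hpos
  refine ⟨_, hN, fun r hr => ?_⟩
  have hrN : r ∣ _ := dvd_of_id hr (by omega) (a := 7) (b := 2) (c := 1) (by decide) (by decide) (by decide)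
    (by rw [hN]; exact ⟨((q : ℤ) - 1) ^ 2, by ring⟩)
  obtain ⟨k, hk⟩ := mod_of_prim hr (by omega)
  have := hr.prime.two_le
  have := hr.odd (by norm_num)
  refine tcc_of hq DataE7m.hA DataE7m.chainOK DataE7m.cycOK DataE7m.rootOK (N := (q + 1) * _) ?_ ?_ hr.prime
    (hrN.mul_left _) (by omega) (good_14 hN hr.prime hrN (by omega))
  · rw [DataE7m.fN_eq, Nat.cast_mul, hN]; push_cast; ring
  · exact UntwData.coprime_of_eq (a := (q : ℤ) ^ 6) (by rw [Nat.cast_mul, hN]; push_cast; ring)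

theorem tcc18 (hq : Fintype.card F = q) : ∃ N : ℕ, (N : ℤ) = 1 - (q : ℤ) ^ 3 + (q : ℤ) ^ 6 ∧
      ∀ r, Prim q 18 r → Tcc ↥(chevE7.group F) r ((q + 1) * N / Nat.gcd 2 (q - 1)) := by
  have h2 : 2 ≤ q := hq ▸ Fintype.one_lt_card
  have hpos : (0 : ℤ) ≤ 1 - (q : ℤ) ^ 3 + (q : ℤ) ^ 6 := by
    obtain ⟨a, rfl⟩ := Nat.exists_eq_add_of_le' h2
    push_cast
    ring_nf
    positivity
  have hN := Int.toNat_of_nonneg hpos
  refine ⟨_, hN, fun r hr => ?_⟩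
  have hrN : r ∣ _ := dvd_of_id hr (by omega) (a := 9) (b := 6) (c := 1) (by decide) (by decide) (by decide)
    (by rw [hN]; exact ⟨((q : ℤ) ^ 3 - 1) * ((q : ℤ) - 1), by ring⟩)
  obtain ⟨k, hk⟩ := mod_of_prim hr (by omega)
  have := hr.prime.two_le
  have := hr.odd (by norm_num)
  refine tcc_of hq DataE7h.hA DataE7h.chainOK DataE7h.cycOK DataE7h.rootOK (N := (q + 1) * _) ?_ ?_ hr.prime
    (hrN.mul_left _) (by omega) (good_18 hN hr.prime hrN (by omega))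
  · rw [DataE7h.fN_eq, Nat.cast_mul, hN]; push_cast; ring
  · exact UntwData.coprime_of_eq (a := 1 - (q : ℤ) ^ 2 - (q : ℤ) ^ 3 + (q : ℤ) ^ 5 + (q : ℤ) ^ 6)
      (by rw [Nat.cast_mul, hN]; push_cast; ring)

end Cfsg.Agent.H632.Der.E7
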