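import Cfsg.Agent.H81.DerTor
import Cfsg.Agent.H81.DerE6
import Cfsg.Agent.H632.Der.NtcE7
import Cfsg.Agent.H632.Der.CentAdj

/-!
# S3502: the cyclic tori of `E₆(q)` and `²E₆(q)` (helper632)
-/

set_option autoImplicit false
set_option linter.unusedSectionVars false

namespace Cfsg.Agent.H632.Der

open Subgroup Cfsg.Agent.H439.Der Cfsg.Agent.H473.Der Cfsg.Agent.H504.ZeroTI Cfsg.Agent.H504.Zeros

universe u

section Abs

variable {T : Type u} [Group T] [Finite T]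

/-- Sylow -/
theorem card_conjPow_modEq {v a : ℕ} (hv : v.Prime) {x : T} (hx : orderOf x = v) (hv2 : ¬ v ^ 2 ∣ Nat.card T)
    (hG : Nat.card T = Nat.card (centralizer ({x} : Set T)) * a) : Nat.card (conjPow x) ≡ a [MOD v] := by
  have hvf : Fact v.Prime := ⟨hv⟩
  have hvT : v ∣ Nat.card T := hx ▸ orderOf_dvd_natCard x
  have hfac : (Nat.card T).factorization v = 1 := by
    have h0 : Nat.card T ≠ 0 := Nat.card_pos.ne'
    have h3 := (hv.dvd_iff_one_le_factorization h0).1 hvT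
    have h4 : ¬ 2 ≤ (Nat.card T).factorization v := fun h => hv2 ((hv.pow_dvd_iff_le_factorization h0).2 h)
    omega
  let P : Sylow v T := Sylow.ofCard (zpowers x) (by rw [hfac, pow_one, Nat.card_zpowers, hx])
  have h1 := card_sylow_modEq_one v T
  have h2 : Nat.card (Sylow v T) = (normalizer ((zpowers x : Subgroup T) : Set T)).index :=
    P.card_eq_index_normalizer
  have h3 := card_conjPow_mul x
  have h4 := (normalizer ((zpowers x : Subgroup T) : Set T)).card_mul_index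
  rw [← h3, ← h2] at h4
  have h5 : Nat.card (conjPow x) * Nat.card (Sylow v T) = a := by
    apply Nat.eq_of_mul_eq_mul_left (Nat.card_pos (α := centralizer ({x} : Set T)))
    rw [← hG, ← h4]
    ring
  have h7 : Nat.card (conjPow x) * Nat.card (Sylow v T) ≡ Nat.card (conjPow x) * 1 [MOD v] := h1.mul_left _
  rw [h5, mul_one] at h7
  exact h7.symm

theorem not_SCC_of_tcc_mod {v P a c o : ℕ} (hT : Tcc T v P) (hv : v.Prime) (hv2 : ¬ v ^ 2 ∣ Nat.card T)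
    (hG : Nat.card T = P * a) (ha : a % v = c)
    (hO : Nat.card (Cfsg.Out T) ≤ o) (hlt : v * (2 * (o * c)) < P * (v - 1)) : ¬ SCC T v := by
  obtain ⟨A, hA, hN, hvN, hC⟩ := hT
  refine not_SCC_of_count hv hA hN hvN hC (fun x hxA hx => ?_) hO hlt
  have h1 : Nat.card (conjPow x) ≡ a [MOD v] := card_conjPow_modEq hv hx hv2 (by rw [hC x hxA hx, hN, hG])
  have h2 := card_conjPow_le_sub_one hv hx
  have h3 : Nat.card (conjPow x) < v := by have := hv.two_le; omega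
  have h4 : Nat.card (conjPow x) % v = a % v := h1
  rw [Nat.mod_eq_of_lt h3, ha] at h4
  exact h4.le

theorem not_SCC_of_exact_comp {v a e o : ℕ} (hv : v.Prime) (hva : v ∣ a) (h : H129.CycT.CycExact T a) (hea : e < a)
    (ha1 : 1 < a) {N : ℤ}
    (hN : (Nat.card T : ℤ) = a * N) (hmod : ((N : ℤ) : ZMod a) = e) (hO : Nat.card (Cfsg.Out T) ≤ o)
    (hlt : v * (2 * (o * e)) < a * (v - 1)) : ¬ SCC T v := by
  obtain ⟨A, hAc, hc, hz⟩ := h
  have hA := cc_of_cyclic hAc hz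
  have he := eIdx_of_int hA hc hea ha1 hN hmod
  have hne : ∀ x : T, orderOf x = v → x ≠ 1 := by
    rintro x hx rfl
    rw [orderOf_one] at hx
    exact hv.one_lt.ne hx
  exact not_SCC_of_count hv hAc hc hva (fun x hx hxo => hz x hx (hne x hxo))
    (fun x hx hxo => (card_conjPow_le_eIdx hA hx (hne x hxo)).trans he.le) hO hlt

theorem bound_tcc {g f N P : ℕ} (hN : N ∣ g * P) (hP : 0 < P) (hg : 0 < g) (h : 2340 * (g * g * f) < 7 * N) :
    15 * (2 * g * f * 78) < 7 * P := by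
  have h1 := Nat.le_of_dvd (Nat.mul_pos hg hP) hN
  have h2 : g * (15 * (2 * g * f * 78)) < g * (7 * P) := by
    calc g * (15 * (2 * g * f * 78)) = 2340 * (g * g * f) := by ring
      _ < 7 * N := h
      _ ≤ 7 * (g * P) := Nat.mul_le_mul_left _ h1
      _ = g * (7 * P) := by ring
  exact Nat.lt_of_mul_lt_mul_left h2

theorem Tcc.pos {r N : ℕ} (h : Tcc T r N) : 0 < N := by
  obtain ⟨C, -, h, -⟩ := h
  rw [← h]
  exact Nat.card_pos

end Abs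

open Cfsg Cfsg.Lie
open Cfsg.Agent.H129 Cfsg.Agent.H129.CycT Cfsg.Agent.H129.RealT Cfsg.Agent.H129.TorusTw Cfsg.Agent.H129.WData
open Cfsg.Agent.H436 (Prim)
open Cfsg.Agent.H190.Exc Cfsg.Agent.H81.Der

section Rows

variable {F : Type u} [Field F] [Fintype F] {q : ℕ}

theorem exists_cube' (h : (Fintype.card F - 1).Coprime 3) (a : F) : ∃ b : F, b ^ 3 = a := by
  by_cases ha : a = 0
  · exact ⟨0, by rw [ha, zero_pow (by norm_num)]⟩
  · have h1 : (Nat.card Fˣ).Coprime 3 := by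
      rw [Nat.card_units, Nat.card_eq_fintype_card]
      exact h
    obtain ⟨b, hb⟩ := (powCoprime h1).surjective (Units.mk0 a ha)
    refine ⟨b, ?_⟩
    have h2 := congrArg Units.val hb
    rw [powCoprime_apply, Units.val_pow_eq_pow_val] at h2
    exact h2

theorem exists_d (hq : Fintype.card F = q) : ∃ d : ℕ, (d = 3 ∨ d = 1 ∧ ∀ a : F, ∃ b : F, b ^ 3 = a) ∧
    Nat.gcd 3 (q - 1) = d := by
  rcases (Nat.dvd_prime Nat.prime_three).1 (Nat.gcd_dvd_left 3 (q - 1)) with h4 | h4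
  · refine ⟨1, Or.inr ⟨rfl, exists_cube' ?_⟩, h4⟩
    rw [hq, Nat.coprime_comm]
    exact h4
  · exact ⟨3, Or.inl rfl, h4⟩

/-- **`E₆(q)`, class 8.** -/
theorem tcc_e6_8 (hq : Fintype.card F = q) {v : ℕ} (h : Prim q 8 v) : ∃ P : ℕ,
    (q ^ 4 + 1) * (q ^ 2 - 1) ∣ Nat.gcd 3 (q - 1) * P ∧ P ∣ (q ^ 4 + 1) * (q ^ 2 - 1) ∧
      Tcc ↥(chevE6.group F) v P := by
  have := TwT.finite_W6
  have hq2 : 2 ≤ q := by rw [← hq]; exact Fintype.one_lt_card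
  have hle : 1 ≤ q ^ 2 := Nat.one_le_pow _ _ (by omega)
  have hN : ((q ^ 4 + 1 : ℕ) : ℤ) = 1 + (q : ℤ) ^ 4 := by push_cast; ring
  have hM : (((q ^ 4 + 1) * (q ^ 2 - 1) : ℕ) : ℤ) = -1 + (q : ℤ) ^ 2 - (q : ℤ) ^ 4 + (q : ℤ) ^ 6 := by
    push_cast [Nat.cast_sub hle]; ring
  have hrN := phi8 h (by omega) hN
  have hg := prim_gt h (by omega)
  obtain ⟨d, hd, hgd⟩ := exists_d hq
  obtain ⟨T, h1, h2, h3, h4, -⟩ := UntwT.untw_T typeE6 CoxeterMatrix.E₆.toCoxeterSystem (by norm_num) hq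
    TorusChar.invC_E6 (by norm_num) DataE6e.hA DataE6e.chainOK DataE6e.cycOK DataE6e.rootOK
    (N := (q ^ 4 + 1) * (q ^ 2 - 1)) (by rw [DataE6e.fN_eq, hM])
    (coprime_of_neg (a := (q : ℤ) - (q : ℤ) ^ 3 + (q : ℤ) ^ 5) (by rw [hM]; ring)) (d := d) hd
  refine ⟨Nat.card T, by rw [hgd]; exact h3, h2, Tcc.of_cyc h1 ?_ (h4 v h.prime
    (not_dvd_W_E6 h.prime (by omega) (by omega) (by omega)) fun s hs => ?_)⟩
  · refine (h.prime.dvd_mul.1 ((hrN.mul_right _).trans h3)).resolve_left fun h5 => ?_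
    have := Nat.le_of_dvd (by rcases hd with rfl | ⟨rfl, -⟩ <;> norm_num) h5
    rcases hd with rfl | ⟨rfl, -⟩ <;> omega
  · rcases DataE6e.dvd_of_G (cast_dvd hN hrN) s hs with h5 | h5
    · exact not_one h.prime h5
    · exact not_prime h.prime Nat.prime_two (by omega) h5

/-- **`E₆(q)`, class 12.** -/
theorem tcc_e6_12 (hq : Fintype.card F = q) {v : ℕ} (h : Prim q 12 v) : ∃ P : ℕ,
    (q ^ 4 - q ^ 2 + 1) * (q ^ 2 + q + 1) ∣ Nat.gcd 3 (q - 1) * P ∧ P ∣ (q ^ 4 - q ^ 2 + 1) * (q ^ 2 + q + 1) ∧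
      Tcc ↥(chevE6.group F) v P := by
  have := TwT.finite_W6
  have hq2 : 2 ≤ q := by rw [← hq]; exact Fintype.one_lt_card
  have hle : q ^ 2 ≤ q ^ 4 := Nat.pow_le_pow_right (by omega) (by norm_num)
  have hN : ((q ^ 4 - q ^ 2 + 1 : ℕ) : ℤ) = 1 - (q : ℤ) ^ 2 + (q : ℤ) ^ 4 := by push_cast [Nat.cast_sub hle]; ring
  have hM : (((q ^ 4 - q ^ 2 + 1) * (q ^ 2 + q + 1) : ℕ) : ℤ) = 1 + (q : ℤ) - (q : ℤ) ^ 3 + (q : ℤ) ^ 5 +
      (q : ℤ) ^ 6 := by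
    push_cast [Nat.cast_sub hle]; ring
  have hrN := phi12 h (by omega) hN
  have hg := prim_gt h (by omega)
  obtain ⟨d, hd, hgd⟩ := exists_d hq
  obtain ⟨T, h1, h2, h3, h4, -⟩ := UntwT.untw_T typeE6 CoxeterMatrix.E₆.toCoxeterSystem (by norm_num) hq
    TorusChar.invC_E6 (by norm_num) DataE6.hA DataE6.chainOK DataE6.cycOK DataE6.rootOK
    (N := (q ^ 4 - q ^ 2 + 1) * (q ^ 2 + q + 1)) (by rw [DataE6.fN_eq, hM])
    (UntwData.coprime_of_eq (a := 1 - (q : ℤ) ^ 2 + (q : ℤ) ^ 4 + (q : ℤ) ^ 5) (by rw [hM]; ring)) (d := d) hd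
  refine ⟨Nat.card T, by rw [hgd]; exact h3, h2, Tcc.of_cyc h1 ?_ (h4 v h.prime
    (not_dvd_W_E6 h.prime (by omega) (by omega) (by omega)) fun s hs => ?_)⟩
  · refine (h.prime.dvd_mul.1 ((hrN.mul_right _).trans h3)).resolve_left fun h5 => ?_
    have := Nat.le_of_dvd (by rcases hd with rfl | ⟨rfl, -⟩ <;> norm_num) h5
    rcases hd with rfl | ⟨rfl, -⟩ <;> omega
  · rcases DataE6.dvd_of_G (cast_dvd hN hrN) s hs with h5 | h5
    · exact not_one h.prime h5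
    · exact not_prime h.prime Nat.prime_two (by omega) h5

/-- **`²E₆(q)`, class 12.** -/
theorem tcc_te6_12 (hq : IsPrimePow q) (hK : Fintype.card F = q ^ 2) {v : ℕ} (h : Prim q 12 v) : ∃ P : ℕ,
    (q ^ 4 - q ^ 2 + 1) * (q ^ 2 - q + 1) ∣ Nat.gcd 3 (q + 1) * P ∧ P ∣ (q ^ 4 - q ^ 2 + 1) * (q ^ 2 - q + 1) ∧
      Tcc ↥(twistedE6 F q) v P := by
  have hq2 : 2 ≤ q := hq.two_le
  have hle : q ^ 2 ≤ q ^ 4 := Nat.pow_le_pow_right (by omega) (by norm_num)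
  have hle' : q ≤ q ^ 2 := by nlinarith [hq.two_le]
  have hN : ((q ^ 4 - q ^ 2 + 1 : ℕ) : ℤ) = 1 - (q : ℤ) ^ 2 + (q : ℤ) ^ 4 := by push_cast [Nat.cast_sub hle]; ring
  have hM : (((q ^ 4 - q ^ 2 + 1) * (q ^ 2 - q + 1) : ℕ) : ℤ) = 1 - (q : ℤ) + (q : ℤ) ^ 3 - (q : ℤ) ^ 5 +
      (q : ℤ) ^ 6 := by
    push_cast [Nat.cast_sub hle, Nat.cast_sub hle']; ring
  have hrN := phi12 h (by omega) hN
  have hg := prim_gt h (by omega)
  obtain ⟨T, h1, h2, h3, h4, -⟩ := TwT.flip_T hq hK DataTE6c.hA DataTE6c.chainOK DataTE6c.hd_pi DataTE6c.cycOK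
    DataTE6c.rootOK DataTE6c.chain2OK DataTE6c.hd2_eq (N := (q ^ 4 - q ^ 2 + 1) * (q ^ 2 - q + 1))
    (by rw [DataTE6c.fN_eq, hM])
    (UntwData.coprime_of_eq (a := -1 + (q : ℤ) ^ 2 - (q : ℤ) ^ 4 + (q : ℤ) ^ 5) (by rw [hM]; ring))
  refine ⟨Nat.card T, h3, h2, Tcc.of_cyc h1
    (dvd_of_dvd_mul h.prime (hrN.mul_right _) (not_dvd_gcd3 h.prime (by omega)) h3)
    (h4 v h.prime (not_dvd_W_E6 h.prime (by omega) (by omega) (by omega)) fun s hs => ?_)⟩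
  rcases DataTE6c.dvd_of_G (cast_dvd hN hrN) s hs with h5 | h5
  · exact not_one h.prime h5
  · exact not_prime h.prime Nat.prime_two (by omega) h5

/-- **`²E₆(q)`, class 8.** -/
theorem tcc_te6_8 (hq : IsPrimePow q) (hK : Fintype.card F = q ^ 2) {v : ℕ} (h : Prim q 8 v) : ∃ P : ℕ,
    (q ^ 4 + 1) * (q ^ 2 - 1) ∣ Nat.gcd 3 (q + 1) * P ∧ P ∣ (q ^ 4 + 1) * (q ^ 2 - 1) ∧
      Tcc ↥(twistedE6 F q) v P := by
  have hq2 : 2 ≤ q := hq.two_le
  have hle : 1 ≤ q ^ 2 := Nat.one_le_pow _ _ (by omega)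
  have hN : ((q ^ 4 + 1 : ℕ) : ℤ) = 1 + (q : ℤ) ^ 4 := by push_cast; ring
  have hM : (((q ^ 4 + 1) * (q ^ 2 - 1) : ℕ) : ℤ) = -1 + (q : ℤ) ^ 2 - (q : ℤ) ^ 4 + (q : ℤ) ^ 6 := by
    push_cast [Nat.cast_sub hle]; ring
  have hrN := phi8 h (by omega) hN
  have hg := prim_gt h (by omega)
  obtain ⟨T, h1, h2, h3, h4, -⟩ := TwT.flip_T hq hK DataTE6e.hA DataTE6e.chainOK DataTE6e.hd_pi DataTE6e.cycOK
    DataTE6e.rootOK DataTE6e.chain2OK DataTE6e.hd2_eq (N := (q ^ 4 + 1) * (q ^ 2 - 1)) (by rw [DataTE6e.fN_eq, hM])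
    (coprime_of_neg (a := (q : ℤ) - (q : ℤ) ^ 3 + (q : ℤ) ^ 5) (by rw [hM]; ring))
  refine ⟨Nat.card T, h3, h2, Tcc.of_cyc h1
    (dvd_of_dvd_mul h.prime (hrN.mul_right _) (not_dvd_gcd3 h.prime (by omega)) h3)
    (h4 v h.prime (not_dvd_W_E6 h.prime (by omega) (by omega) (by omega)) fun s hs => ?_)⟩
  rcases DataTE6e.dvd_of_G (cast_dvd hN hrN) s hs with h5 | h5
  · exact not_one h.prime h5
  · exact not_prime h.prime Nat.prime_two (by omega) h5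

end Rows

end Cfsg.Agent.H632.Der
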