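import Cfsg.Agent.H632.Der.Ne6
import Cfsg.Agent.H632.Der.NtcE7b

/-!
# S3502: no prime is `SCC` for `E₆(q)` (helper632)
-/

set_option autoImplicit false
set_option linter.unusedSectionVars false

namespace Cfsg.Agent.H632.Der.E6

open Cfsg Cfsg.Lie Cfsg.Lie.ChevalleyDatum
open Cfsg.Agent.ChevalleyStructure Cfsg.Agent.ChevalleyStructure.Elts Cfsg.Agent.ChevalleyStructure.CoxeterGeomTypes
open Cfsg.Agent.Nodes Cfsg.Agent.Nodes.RGDChev
open Cfsg.Agent.H436 (Prim exists_prim)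
open Cfsg.Agent.H439.Der Cfsg.Agent.H473.Der
open Cfsg.Agent.H316.U6 (MData CentRoot)
open Cfsg.Agent.H129 Cfsg.Agent.H129.CycT Cfsg.Agent.H190.Exc Cfsg.Agent.H81.Der

universe u

variable {F : Type} [Field F] [Fintype F] {q : ℕ}

theorem card_idx6 : Fintype.card chevE6.Idx = 78 := by rfl

theorem not_SCC_of_tcc13 {T : Type u} [Group T] [Finite T] {v P c o : ℕ} (hT : Tcc T v P) (hv : v.Prime)
    (hc : ∀ x : T, orderOf x = v → Nat.card (conjPow x) ≤ c)
    (hO : Nat.card (Cfsg.Out T) ≤ o) (h13 : 13 ≤ v) (hlt : 13 * (o * c) < 6 * P) : ¬ SCC T v := by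
  obtain ⟨A, hA, hN, hvN, hC⟩ := hT
  refine not_SCC_of_count hv hA hN hvN hC (fun x _ hx => hc x hx) hO ?_
  have h1 : 12 * (v * (2 * (o * c))) ≤ (13 * (o * c)) * (2 * (v - 1)) := by
    obtain ⟨t, rfl⟩ := Nat.exists_eq_add_of_le h13
    have e : 13 + t - 1 = 12 + t := by omega
    rw [e]
    nlinarith [Nat.zero_le (t * (o * c))]
  have h2 : (13 * (o * c)) * (2 * (v - 1)) < (6 * P) * (2 * (v - 1)) := Nat.mul_lt_mul_of_pos_right hlt (by omega)
  have h3 : (6 * P) * (2 * (v - 1)) = 12 * (P * (v - 1)) := by ring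
  omega

/-- the number of the elements of a class in a cyclic torus -/
theorem torus {T : Type u} [Group T] [Finite T] {K : Type*} [Field K] (ρ : T →* GL chevE6.Idx K)
    (hρ : Function.Injective ρ) {v : ℕ} (hv : v.Prime) (hvK : (v : K) ≠ 0)
    {g f N P : ℕ} (hN : N ∣ g * P) (hg : 0 < g) (h : 338 * (g * g * f) < N)
    (hO : Nat.card (Cfsg.Out T) = 2 * g * f) (h13 : 13 ≤ v) (hT : Tcc T v P) : ¬ SCC T v := by
  refine not_SCC_of_tcc13 hT hv (fun x hx => card_conjPow_le ρ hρ hv hvK hx) hO.le h13 ?_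
  rw [card_idx6]
  have h1 := Nat.le_of_dvd (Nat.mul_pos hg hT.pos) hN
  have h2 : g * (13 * (2 * g * f * 78)) < g * (6 * P) := by
    calc g * (13 * (2 * g * f * 78)) = 6 * (338 * (g * g * f)) := by ring
      _ < 6 * N := Nat.mul_lt_mul_of_pos_left h (by norm_num)
      _ ≤ 6 * (g * P) := Nat.mul_le_mul_left _ h1
      _ = g * (6 * P) := by ring
  exact Nat.lt_of_mul_lt_mul_left h2

theorem g_sq_le {g n : ℕ} (hg : g = Nat.gcd 3 n) : 0 < g ∧ g * g ≤ 9 := by
  have h1 : g ≤ 3 := by rw [hg]; exact Nat.le_of_dvd (by norm_num) (Nat.gcd_dvd_left _ _)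
  exact ⟨by rw [hg]; exact Nat.gcd_pos_of_pos_left _ (by norm_num), Nat.mul_le_mul h1 h1⟩

/-- **`E₆(q)`, class 9.** -/
theorem not_SCC_9 (hq : Fintype.card F = q) {v : ℕ} (h : Prim q 9 v)
    (hG : Nat.gcd 3 (q - 1) * Nat.card ↥(chevE6.group F) =
      q ^ 36 * (q ^ 2 - 1) * (q ^ 5 - 1) * (q ^ 6 - 1) * (q ^ 8 - 1) * (q ^ 9 - 1) * (q ^ 12 - 1))
    {f : ℕ} (hO : Nat.card (Cfsg.Out ↥(chevE6.group F)) = 2 * Nat.gcd 3 (q - 1) * f)
    (hlt : 38 * (Nat.gcd 3 (q - 1) * Nat.gcd 3 (q - 1) * f) < q ^ 6 + q ^ 3 + 1) :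
    ¬ SCC ↥(chevE6.group F) v := by
  have hq2 : 2 ≤ q := by rw [← hq]; exact Fintype.one_lt_card
  have hN : ((q ^ 6 + q ^ 3 + 1 : ℕ) : ℤ) = 1 + (q : ℤ) ^ 3 + (q : ℤ) ^ 6 := by push_cast; ring
  have hE := exact_E6_9 hq hN
  have hvN := phi9 h (by omega) hN
  have hv9 := prim_dvd_sub h (by omega)
  have hv2 := h.prime.two_le
  have hodd := h.odd (by norm_num)
  have hv19 : 19 ≤ v := by omega
  have h3 : (q ^ 6 + q ^ 3 + 1) / Nat.gcd 3 (q - 1) * Nat.gcd 3 (q - 1) = q ^ 6 + q ^ 3 + 1 := by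
    refine Nat.div_mul_cancel ?_
    rcases (Nat.dvd_prime Nat.prime_three).1 (Nat.gcd_dvd_left 3 (q - 1)) with h4 | h4
    · rw [h4]; exact one_dvd _
    · rw [h4, ← ZMod.natCast_eq_zero_iff]
      have h5 : 3 ∣ q - 1 := h4 ▸ Nat.gcd_dvd_right 3 (q - 1)
      have h7 := (ZMod.natCast_eq_zero_iff (q - 1) 3).2 h5
      rw [Nat.cast_sub (by omega), Nat.cast_one, sub_eq_zero] at h7
      push_cast
      rw [h7]
      decide
  have hd0 : 0 < Nat.gcd 3 (q - 1) := Nat.gcd_pos_of_pos_left _ (by norm_num)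
  obtain ⟨n, hn⟩ : ∃ n, n = (q ^ 6 + q ^ 3 + 1) / Nat.gcd 3 (q - 1) := ⟨_, rfl⟩
  rw [← hn] at hE h3
  have hvn : v ∣ n := by
    rw [← h3] at hvN
    exact ((Nat.Prime.dvd_mul h.prime).1 hvN).resolve_right (not_dvd_gcd3 h.prime (by omega))
  have hn0 : 0 < n := by
    rcases Nat.eq_zero_or_pos n with h0 | h0
    · rw [h0, zero_mul] at h3; omega
    · exact h0
  have hn19 : 19 ≤ n := hv19.trans (Nat.le_of_dvd hn0 hvn)
  have hp : ∀ k, 1 ≤ q ^ k := fun k => Nat.one_le_pow _ _ (by omega)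
  have h9 : q ^ 9 - 1 = (q ^ 3 - 1) * (n * Nat.gcd 3 (q - 1)) := by
    rw [h3]
    zify [hp 9, hp 3]
    ring
  have hGn : Nat.card ↥(chevE6.group F) = n * (q ^ 36 * ((q ^ 2 - 1) * (q ^ 5 - 1) * (q ^ 6 - 1) * (q ^ 8 - 1) *
      (q ^ 3 - 1) * (q ^ 12 - 1))) := by
    apply Nat.eq_of_mul_eq_mul_left hd0
    rw [hG, h9]
    ring
  refine not_SCC_of_exact_comp h.prime hvn hE (e := 9) (by omega) (by omega)
    (N := ((q ^ 36 * ((q ^ 2 - 1) * (q ^ 5 - 1) * (q ^ 6 - 1) * (q ^ 8 - 1) *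
      (q ^ 3 - 1) * (q ^ 12 - 1)) : ℕ) : ℤ)) (by rw [hGn]; push_cast; ring) ?_ hO.le ?_
  · push_cast [Nat.cast_sub (hp 2), Nat.cast_sub (hp 5), Nat.cast_sub (hp 6), Nat.cast_sub (hp 8),
      Nat.cast_sub (hp 3), Nat.cast_sub (hp 12)]
    refine nine_id ?_
    have h4 : ((q ^ 6 + q ^ 3 + 1 : ℕ) : ZMod n) = 0 := by
      rw [← h3, Nat.cast_mul, ZMod.natCast_self, zero_mul]
    push_cast at h4
    exact h4
  · generalize Nat.gcd 3 (q - 1) = g at *
    have h5 : 38 * (g * f) < n := by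
      have : g * (38 * (g * f)) < g * n := by
        calc g * (38 * (g * f)) = 38 * (g * g * f) := by ring
          _ < n * g := h3 ▸ hlt
          _ = g * n := mul_comm _ _
      exact Nat.lt_of_mul_lt_mul_left this
    have h6 : 18 * v ≤ 19 * (v - 1) := by omega
    calc v * (2 * (2 * g * f * 9)) = (18 * v) * (2 * (g * f)) := by ring
      _ ≤ (19 * (v - 1)) * (2 * (g * f)) := Nat.mul_le_mul_right _ h6
      _ = (38 * (g * f)) * (v - 1) := by ring
      _ < n * (v - 1) := Nat.mul_lt_mul_of_pos_right h5 (by omega)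

/-- the numbers, class 8, `q ≥ 5` -/
theorem num8 {q f G : ℕ} (hq : 5 ≤ q) (hf : f ≤ q - 2) (hG : G ≤ 9) :
    338 * (G * f) < (q ^ 4 + 1) * (q ^ 2 - 1) := by
  obtain ⟨b, rfl⟩ := Nat.exists_eq_add_of_le' hq
  have e : (b + 5) ^ 2 - 1 = b ^ 2 + 10 * b + 24 := by
    rw [show (b + 5) ^ 2 = b ^ 2 + 10 * b + 24 + 1 by ring, Nat.add_sub_cancel]
  have h1 : G * f ≤ 9 * (b + 3) := Nat.mul_le_mul hG (by omega)
  rw [e]
  have h2 : 338 * (9 * (b + 3)) < ((b + 5) ^ 4 + 1) * (b ^ 2 + 10 * b + 24) := by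
    have : ∃ c : ℕ, ((b + 5) ^ 4 + 1) * (b ^ 2 + 10 * b + 24) = 338 * (9 * (b + 3)) + 1 + c := by
      refine ⟨1 * b ^ 6 + 30 * b ^ 5 + 374 * b ^ 4 + 2480 * b ^ 3 + 9226 * b ^ 2 + 15218 * b + 5897, ?_⟩
      ring
    omega
  have h3 := Nat.mul_le_mul_left 338 h1
  omega

/-- the numbers, class 12, `q ≥ 5` -/
theorem num12 {q f G : ℕ} (hq : 5 ≤ q) (hf : f ≤ q - 2) (hG : G ≤ 9) :
    338 * (G * f) < (q ^ 4 - q ^ 2 + 1) * (q ^ 2 - q + 1) := by
  obtain ⟨b, rfl⟩ := Nat.exists_eq_add_of_le' hq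
  have e : (b + 5) ^ 2 - (b + 5) = b ^ 2 + 9 * b + 20 := by
    rw [show (b + 5) ^ 2 = b ^ 2 + 9 * b + 20 + (b + 5) by ring, Nat.add_sub_cancel]
  have e' : (b + 5) ^ 4 - (b + 5) ^ 2 = b ^ 4 + 20 * b ^ 3 + 149 * b ^ 2 + 490 * b + 600 := by
    rw [show (b + 5) ^ 4 = b ^ 4 + 20 * b ^ 3 + 149 * b ^ 2 + 490 * b + 600 + (b + 5) ^ 2 by ring,
      Nat.add_sub_cancel]
  have h1 : G * f ≤ 9 * (b + 3) := Nat.mul_le_mul hG (by omega)
  rw [e, e']
  have h2 : 338 * (9 * (b + 3)) < (b ^ 4 + 20 * b ^ 3 + 149 * b ^ 2 + 490 * b + 600 + 1) *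
      (b ^ 2 + 9 * b + 20 + 1) := by
    have : ∃ c : ℕ, (b ^ 4 + 20 * b ^ 3 + 149 * b ^ 2 + 490 * b + 600 + 1) * (b ^ 2 + 9 * b + 20 + 1) =
        338 * (9 * (b + 3)) + 1 + c := by
      refine ⟨1 * b ^ 6 + 29 * b ^ 5 + 350 * b ^ 4 + 2251 * b ^ 3 + 8140 * b ^ 2 + 12657 * b + 3494, ?_⟩
      ring
    omega
  have h3 := Nat.mul_le_mul_left 338 h1
  omega

theorem num12_le (q : ℕ) : (q ^ 4 - q ^ 2 + 1) * (q ^ 2 - q + 1) ≤ (q ^ 4 - q ^ 2 + 1) * (q ^ 2 + q + 1) :=
  Nat.mul_le_mul_left _ (by omega)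

theorem num9 {q f G : ℕ} (hq : 3 ≤ q) (hf : f ≤ q - 2) (hG : G ≤ 9) :
    38 * (G * f) < q ^ 6 - q ^ 3 + 1 := by
  obtain ⟨b, rfl⟩ := Nat.exists_eq_add_of_le' hq
  have e : (b + 3) ^ 6 - (b + 3) ^ 3 = b ^ 6 + 18 * b ^ 5 + 135 * b ^ 4 + 539 * b ^ 3 + 1206 * b ^ 2 + 1431 * b +
      702 := by
    rw [show (b + 3) ^ 6 = b ^ 6 + 18 * b ^ 5 + 135 * b ^ 4 + 539 * b ^ 3 + 1206 * b ^ 2 + 1431 * b +
      702 + (b + 3) ^ 3 by ring, Nat.add_sub_cancel]
  have h1 : G * f ≤ 9 * (b + 1) := Nat.mul_le_mul hG (by omega)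
  have h3 := Nat.mul_le_mul_left 38 h1
  rw [e]
  nlinarith [Nat.zero_le (b ^ 6 + 18 * b ^ 5 + 135 * b ^ 4 + 539 * b ^ 3 + 1206 * b ^ 2)]

/-- `|E₆(2)|`, `|E₆(4)|` -/
def E62 : ℕ := 214841575522005575270400
def E64 : ℕ := 28509570260447546701277873018380921822248960000
def A51 : ℕ := 4212579912196187750400
def A1285 : ℕ := 22186436000348285370644259158273090912256000
def A1687 : ℕ := 16899567433578865857307571439467055022080000

/-- **`E₆(q)`** -/
theorem ntc (F : Type) [Field F] [Fintype F] : NTC ↥(chevE6.group F) := by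
  obtain ⟨r, hch⟩ := CharP.exists F
  obtain ⟨⟨f, hf0⟩, hr, hqf⟩ := FiniteField.card F r
  have hqf' : Fintype.card F = r ^ f := hqf
  have hrf : Fact r.Prime := ⟨hr⟩
  have hq2 : 2 ≤ Fintype.card F := Fintype.one_lt_card
  obtain ⟨q, hqd⟩ : ∃ q, q = Fintype.card F := ⟨_, rfl⟩
  have hp : IsType chevE6 6 CoxeterMatrix.E₆ := by simp [IsType, typeList]
  obtain ⟨m, hg, hdd⟩ := H316.U6.mdata_untw (r := r) hp
    (fun h => absurd (congrArg ChevalleyDatum.nroots h) (by decide))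
    (fun h => absurd (congrArg ChevalleyDatum.nroots h) (by decide)) F
  have hdd3 : m.dd ∣ 3 := by
    rcases hdd with ⟨h, -⟩ | ⟨h, -⟩ | ⟨-, h⟩
    · rw [h]; exact one_dvd _
    · rw [h]; exact Nat.gcd_dvd_left _ _
    · exact absurd (congrArg ChevalleyDatum.nroots h) (by decide)
  have hrq : r ∣ q := by rw [hqd, hqf']; exact dvd_pow_self r hf0.ne'
  have hmq : r ^ m.e = q := by rw [m.hq, hqd]
  have hG := S1063.result (F := F) (q := q) hqd.symm
  have hq1 : 1 ≤ q := by omega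
  have hq2' : 2 ≤ q := by omega
  have h2f : 2 ^ f ≤ q := by rw [hqd, hqf']; exact Nat.pow_le_pow_left hr.two_le f
  have hO : Nat.card (Cfsg.Out ↥(chevE6.group F)) = 2 * Nat.gcd 3 (q - 1) * f := by
    rw [S2123.result r f hqf', hqd, hqf']
  -- auxiliary primes
  obtain ⟨l, hl4⟩ := exists_prim (q := q) (e := 4) (by omega) (by norm_num) (by norm_num)
  have hlf : Fact l.Prime := ⟨hl4.prime⟩
  have hlr : l ≠ r := by
    rintro rfl
    exact hl4.not_dvd hrq
  have hol : orderOf ((r ^ m.e : ℕ) : ZMod l) = 4 := by rw [hmq]; exact order_of_prim hl4 (by omega)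
  have hlodd := hl4.odd (by norm_num)
  have hl5 : 5 ≤ l := by
    have h1 := prim_gt hl4 hq1
    omega
  have hf3 : Fact (Nat.Prime 3) := ⟨Nat.prime_three⟩
  have h3 : r ≠ 3 → CentRoot m 3 := by
    intro hr3
    have h0 : ((r ^ m.e : ℕ) : ZMod 3) ≠ 0 := by
      rw [Ne, ZMod.natCast_eq_zero_iff]
      intro h
      exact hr3 ((Nat.prime_dvd_prime_iff_eq Nat.prime_three hr).1 (Nat.prime_three.dvd_of_dvd_pow h)).symm
    have h2 := orderOf_dvd_of_pow_eq_one (sq_three _ h0)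
    have h4 := Nat.le_of_dvd (by norm_num) h2
    have h5 : 0 < orderOf ((r ^ m.e : ℕ) : ZMod 3) := Nat.pos_of_dvd_of_pos h2 (by norm_num)
    exact centRoot_E6 m hg hdd3 (by norm_num) (Ne.symm hr3) h5 (by omega)
  refine ntc_of_centRoot m (t := chevE6.simple 1) (by decide) (by decide +kernel) h3 hl4.prime hl5 hlr
    (centRoot_E6 m hg hdd3 (by omega) hlr (by rw [hol]; norm_num) (by rw [hol]; norm_num)) ?_
  intro v hv hvT hv2 hvr
  have hvf : Fact v.Prime := ⟨hv⟩
  have hvF : (v : F) ≠ 0 := fun h => hvr ((Nat.prime_dvd_prime_iff_eq hr hv).1 ((CharP.cast_eq_zero_iff F r v).1 h)).symm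
  -- the order of `q`
  have hvq : ¬ v ∣ q := by
    intro h
    rw [hqd, hqf'] at h
    exact hvr ((Nat.prime_dvd_prime_iff_eq hv hr).1 (hv.dvd_of_dvd_pow h))
  have h1 : v ∣ q ^ 36 * (q ^ 2 - 1) * (q ^ 5 - 1) * (q ^ 6 - 1) * (q ^ 8 - 1) * (q ^ 9 - 1) * (q ^ 12 - 1) := by
    rw [← hG]
    exact hvT.mul_left _
  obtain ⟨d, hd⟩ : ∃ d, d = orderOf (q : ZMod v) := ⟨_, rfl⟩
  have h2 : d ∣ 2 ∨ d ∣ 5 ∨ d ∣ 6 ∨ d ∣ 8 ∨ d ∣ 9 ∨ d ∣ 12 := by
    rw [hd]
    rcases (hv.dvd_mul).1 h1 with h1 | h1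
    · rcases (hv.dvd_mul).1 h1 with h1 | h1
      · rcases (hv.dvd_mul).1 h1 with h1 | h1
        · rcases (hv.dvd_mul).1 h1 with h1 | h1
          · rcases (hv.dvd_mul).1 h1 with h1 | h1
            · rcases (hv.dvd_mul).1 h1 with h1 | h1
              · exact absurd (hv.dvd_of_dvd_pow h1) hvq
              · exact Or.inl (order_dvd_of hq1 h1)
            · exact Or.inr (Or.inl (order_dvd_of hq1 h1))
          · exact Or.inr (Or.inr (Or.inl (order_dvd_of hq1 h1)))
        · exact Or.inr (Or.inr (Or.inr (Or.inl (order_dvd_of hq1 h1))))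
      · exact Or.inr (Or.inr (Or.inr (Or.inr (Or.inl (order_dvd_of hq1 h1)))))
    · exact Or.inr (Or.inr (Or.inr (Or.inr (Or.inr (order_dvd_of hq1 h1)))))
  have h3 : (1 ≤ d ∧ d ≤ 6) ∨ d = 8 ∨ d = 9 ∨ d = 12 := by
    have h4 : d ≤ 12 := by
      rcases h2 with h | h | h | h | h | h <;> exact (Nat.le_of_dvd (by norm_num) h).trans (by norm_num)
    clear hd
    interval_cases d <;> revert h2 <;> decide
  rcases h3 with ⟨h3, h4⟩ | h3 | h3 | h3
  · have ho : orderOf ((r ^ m.e : ℕ) : ZMod v) = d := by rw [hmq, hd]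
    exact Or.inl (centRoot_E6 m hg hdd3 hv2 hvr (by rw [ho]; omega) (by rw [ho]; omega))
  · right
    have hP := prim_of hv hq1 hvq (hd.symm.trans h3)
    obtain ⟨P, hN, hPN, hT⟩ := tcc_e6_8 hqd.symm hP
    have h15 : 15 ≤ v := by
      have h4 := prim_dvd_sub hP hq1
      have h5 := hv.two_le
      have h6 : v ≠ 9 := by rintro rfl; exact absurd hv (by norm_num)
      omega
    have hvd : v ∣ q ^ 4 + 1 := phi8 hP hq1 (by push_cast; ring)
    obtain ⟨hg0, hg9⟩ := g_sq_le (g := Nat.gcd 3 (q - 1)) rfl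
    clear h2 h1 hd hl4 hol hqd hqf' hqf
    rcases Nat.lt_or_ge q 5 with h5 | h5
    · have h6 : q = 2 ∨ q = 3 ∨ q = 4 := by omega
      rcases h6 with rfl | rfl | rfl
      · have hP51 : P = 51 := Nat.dvd_antisymm hPN (by simpa using hN)
        subst hP51
        have hv17 : v = 17 := (Nat.prime_dvd_prime_iff_eq hv (by norm_num)).1 hvd
        subst hv17
        have hf1 : f = 1 := by
          have : f < 2 := (Nat.pow_lt_pow_iff_right (by norm_num : 1 < 2)).1 (lt_of_le_of_lt h2f (by norm_num))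
          omega
        have hc : Nat.card ↥(chevE6.group F) = E62 := by
          norm_num at hG
          rw [hG]; rfl
        refine not_SCC_of_tcc_mod (a := A51) (c := 8) (o := 2) hT hv ?_ ?_ (by decide +kernel) ?_ (by norm_num)
        · rw [hc]; decide +kernel
        · rw [hc]; decide +kernel
        · rw [hO, hf1]; decide
      · refine torus (chevE6.group F).subtype (Subgroup.subtype_injective _) hv hvF hN hg0 ?_ hO (by omega) hT
        have : f ≤ 1 := by
          have : f < 2 := (Nat.pow_lt_pow_iff_right (by norm_num : 1 < 2)).1 (lt_of_le_of_lt h2f (by norm_num))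
          omega
        norm_num
        omega
      · have hf2 : f ≤ 2 := by
          have : f < 3 := (Nat.pow_lt_pow_iff_right (by norm_num : 1 < 2)).1 (lt_of_le_of_lt h2f (by norm_num))
          omega
        have hv257 : v = 257 := (Nat.prime_dvd_prime_iff_eq hv (by norm_num)).1 hvd
        subst hv257
        norm_num at hN hPN
        have hP' : P = 1285 ∨ P = 3855 := by
          obtain ⟨c, hc⟩ := hN
          obtain ⟨c', hc'⟩ := hPN
          have e1 : P = 1285 * c := by omega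
          have e2 : 3 = c * c' := by rw [e1] at hc'; nlinarith
          have h7 : c ∣ 3 := Dvd.intro _ e2.symm
          rcases (Nat.dvd_prime Nat.prime_three).1 h7 with rfl | rfl
          · exact Or.inl (by omega)
          · exact Or.inr (by omega)
        rcases hP' with rfl | rfl
        · have hc : Nat.card ↥(chevE6.group F) = E64 := by
            norm_num at hG
            have : 3 * Nat.card ↥(chevE6.group F) = 3 * E64 := by rw [hG]; rfl
            omega
          refine not_SCC_of_tcc_mod (a := A1285) (c := 8) (o := 12) hT hv ?_ ?_ (by decide +kernel) ?_ (by norm_num)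
          · rw [hc]; decide +kernel
          · rw [hc]; decide +kernel
          · rw [hO]
            norm_num
            omega
        · refine not_SCC_of_tcc (c := 78) (o := 12) hT hv (fun x hx => ?_) ?_ (by norm_num) (by norm_num)
          · exact card_conjPow_le (chevE6.group F).subtype (Subgroup.subtype_injective _) hv hvF hx
          · rw [hO]
            norm_num
            omega
    · refine torus (chevE6.group F).subtype (Subgroup.subtype_injective _) hv hvF hN hg0 ?_ hO (by omega) hT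
      exact num8 h5 (E7.f_le (by omega) h2f) hg9
  · right
    refine not_SCC_9 hqd.symm (prim_of hv hq1 hvq (hd.symm.trans h3)) hG hO ?_
    obtain ⟨hg0, hg9⟩ := g_sq_le (g := Nat.gcd 3 (q - 1)) rfl
    rcases Nat.lt_or_ge q 3 with h5 | h5
    · have h6 : q = 2 := by omega
      clear h2 h1 hd hl4 hol hqd hqf' hqf
      subst h6
      have : f ≤ 1 := by
        have : f < 2 := (Nat.pow_lt_pow_iff_right (by norm_num : 1 < 2)).1 (lt_of_le_of_lt h2f (by norm_num))
        omega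
      norm_num
      omega
    · have h6 := num9 h5 (E7.f_le h5 h2f) hg9
      omega
  · right
    have hP := prim_of hv hq1 hvq (hd.symm.trans h3)
    obtain ⟨P, hN, hPN, hT⟩ := tcc_e6_12 hqd.symm hP
    have h13 : 13 ≤ v := by
      have h4 := prim_gt hP hq1
      omega
    have hle : q ^ 2 ≤ q ^ 4 := Nat.pow_le_pow_right (by omega) (by norm_num)
    have hvd : v ∣ q ^ 4 - q ^ 2 + 1 := phi12 hP hq1 (by push_cast [Nat.cast_sub hle]; ring)
    obtain ⟨hg0, hg9⟩ := g_sq_le (g := Nat.gcd 3 (q - 1)) rfl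
    clear h2 h1 hd hl4 hol hqd hqf' hqf
    rcases Nat.lt_or_ge q 5 with h5 | h5
    · have h6 : q = 2 ∨ q = 3 ∨ q = 4 := by omega
      rcases h6 with rfl | rfl | rfl
      · have hP51 : P = 91 := Nat.dvd_antisymm hPN (by simpa using hN)
        subst hP51
        have hv17 : v = 13 := (Nat.prime_dvd_prime_iff_eq hv (by norm_num)).1 hvd
        subst hv17
        have hf1 : f = 1 := by
          have : f < 2 := (Nat.pow_lt_pow_iff_right (by norm_num : 1 < 2)).1 (lt_of_le_of_lt h2f (by norm_num))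
          omega
        refine not_SCC_of_tcc' (o := 2) hT hv ?_ (by norm_num)
        rw [hO, hf1]; decide
      · refine torus (chevE6.group F).subtype (Subgroup.subtype_injective _) hv hvF hN hg0 ?_ hO h13 hT
        have : f ≤ 1 := by
          have : f < 2 := (Nat.pow_lt_pow_iff_right (by norm_num : 1 < 2)).1 (lt_of_le_of_lt h2f (by norm_num))
          omega
        norm_num
        omega
      · have hf2 : f ≤ 2 := by
          have : f < 3 := (Nat.pow_lt_pow_iff_right (by norm_num : 1 < 2)).1 (lt_of_le_of_lt h2f (by norm_num))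
          omega
        have hv257 : v = 241 := (Nat.prime_dvd_prime_iff_eq hv (by norm_num)).1 hvd
        subst hv257
        norm_num at hN hPN
        have hP' : P = 1687 ∨ P = 5061 := by
          obtain ⟨c, hc⟩ := hN
          obtain ⟨c', hc'⟩ := hPN
          have e1 : P = 1687 * c := by omega
          have e2 : 3 = c * c' := by rw [e1] at hc'; nlinarith
          have h7 : c ∣ 3 := Dvd.intro _ e2.symm
          rcases (Nat.dvd_prime Nat.prime_three).1 h7 with rfl | rfl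
          · exact Or.inl (by omega)
          · exact Or.inr (by omega)
        rcases hP' with rfl | rfl
        · have hc : Nat.card ↥(chevE6.group F) = E64 := by
            norm_num at hG
            have : 3 * Nat.card ↥(chevE6.group F) = 3 * E64 := by rw [hG]; rfl
            omega
          refine not_SCC_of_tcc_mod (a := A1687) (c := 12) (o := 12) hT hv ?_ ?_ (by decide +kernel) ?_ (by norm_num)
          · rw [hc]; decide +kernel
          · rw [hc]; decide +kernel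
          · rw [hO]
            norm_num
            omega
        · refine not_SCC_of_tcc (c := 78) (o := 12) hT hv (fun x hx => ?_) ?_ (by norm_num) (by norm_num)
          · exact card_conjPow_le (chevE6.group F).subtype (Subgroup.subtype_injective _) hv hvF hx
          · rw [hO]
            norm_num
            omega
    · refine torus (chevE6.group F).subtype (Subgroup.subtype_injective _) hv hvF hN hg0 ?_ hO h13 hT
      exact lt_of_lt_of_le (num12 h5 (E7.f_le (by omega) h2f) hg9) (num12_le q)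

end Cfsg.Agent.H632.Der.E6
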