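import Cfsg.Agent.H632.Der.E7Tor
import Cfsg.Agent.H473.Der.NscE7
import Cfsg.Agent.H290.ElE7t

/-!
# S3502: no prime is `SCC` for `E₇(q)` (helper632)
-/

set_option autoImplicit false

namespace Cfsg.Agent.H632.Der.E7

open CoxeterSystem Subgroup Cfsg Cfsg.Lie Cfsg.Lie.ChevalleyDatum
open Cfsg.Agent.ChevalleyStructure.CoxeterGeomTypes
open Cfsg.Agent.Nodes.RGDChev Cfsg.Agent.KFacts.RgdChevCoord Cfsg.Agent.BpExc.TorChev
open Cfsg.Agent.BpExc.RowsUntw Cfsg.Agent.BpExc.FamInst Cfsg.Agent.BpExc.FamExt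
open Cfsg.Agent.H378 Cfsg.Agent.H378.SmallTor Cfsg.Agent.H378.AdjTab Cfsg.Agent.H378.CycTab Cfsg.Agent.H378.ExcAdj
  Cfsg.Agent.H378.ExcNear
open Cfsg.Agent.H493.PGTorus Cfsg.Agent.H129.WData
open Cfsg.Agent.H439.Der Cfsg.Agent.H473.Der Cfsg.Agent.H371.Core Cfsg.Agent.H371.CycEval

universe u

/-- adjacency to the characteristic and to 3 -/
theorem adjp (F : Type u) [Field F] [Finite F] {p : ℕ} [Fact p.Prime] [CharP F p] {r : ℕ} (hr : r.Prime)
    (hd : r ∣ Nat.card ↥(chevE7.group F)) (h2 : r ≠ 2) (hrp : r ≠ p) (hrq : ¬ r ∣ Nat.card F) :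
    (H94.PG.Adj ↥(chevE7.group F) r p ∧ (p = 2 → r ≠ 3 → H94.PG.Adj ↥(chevE7.group F) r 3)) ∨
      od (Nat.card F) r = 7 ∨ od (Nat.card F) r = 9 ∨ od (Nat.card F) r = 12 ∨ od (Nat.card F) r = 14 ∨
      od (Nat.card F) r = 18 := by
  let cs : CoxeterSystem CoxeterMatrix.E₇ CoxeterMatrix.E₇.Group := CoxeterMatrix.E₇.toCoxeterSystem
  have := finite_W e7T cs
  have hq : 1 ≤ Nat.card F := Nat.card_pos
  have ho : od (Nat.card F) r = 7 ∨ od (Nat.card F) r = 9 ∨ od (Nat.card F) r = 12 ∨ od (Nat.card F) r = 14 ∨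
      od (Nat.card F) r = 18 →
      (H94.PG.Adj ↥(chevE7.group F) r p ∧ (p = 2 → r ≠ 3 → H94.PG.Adj ↥(chevE7.group F) r 3)) ∨
      od (Nat.card F) r = 7 ∨ od (Nat.card F) r = 9 ∨ od (Nat.card F) r = 12 ∨ od (Nat.card F) r = 14 ∨
      od (Nat.card F) r = 18 := fun h => Or.inr h
  have hn1 : ∀ {m : ℕ}, m ≠ 1 → od (Nat.card F) r = m → ¬ r ∣ Nat.card F - 1 := by
    intro m hm h3 h4
    have h5 : od (Nat.card F) r ∣ 1 := od_dvd hq (by rw [pow_one]; exact h4)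
    rw [h3] at h5
    exact hm (Nat.dvd_one.1 h5)
  rcases od_E7 hr hd with h | h | h | h | h | h | h | h | h | h | h | h | h | h
  · exact absurd h hrq
  · exact Or.inl (adjp_split e7T cs AdjE7.orth hr h2 hrp (dvd_of_od_one hq h))
  · exact Or.inl (adjp_row e7T cs inv_E7 two_ne_zero AdjE7.hA AdjE7.lt_nroots AdjE7.row2 hr hrp
      (hn1 (by decide) h) (dvd2 hr h))
  · exact Or.inl (adjp_row e7T cs inv_E7 two_ne_zero AdjE7.hA AdjE7.lt_nroots AdjE7.row3 hr hrp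
      (hn1 (by decide) h) (dvd3 hr h))
  · exact Or.inl (adjp_row e7T cs inv_E7 two_ne_zero AdjE7.hA AdjE7.lt_nroots AdjE7.row4 hr hrp
      (hn1 (by decide) h) (dvd4 hr h))
  · exact Or.inl (adjp_row e7T cs inv_E7 two_ne_zero AdjE7.hA AdjE7.lt_nroots AdjE7.row5 hr hrp
      (hn1 (by decide) h) (dvd5 hr h))
  · exact Or.inl (adjp_row e7T cs inv_E7 two_ne_zero AdjE7.hA AdjE7.lt_nroots AdjE7.row6 hr hrp
      (hn1 (by decide) h) (dvd6 hr h))
  · exact ho (by tauto)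
  · exact Or.inl (adjp_row e7T cs inv_E7 two_ne_zero AdjE7.hA AdjE7.lt_nroots AdjE7.row8 hr hrp
      (hn1 (by decide) h) (dvd8 hr h))
  · exact ho (by tauto)
  · exact Or.inl (adjp_row e7T cs inv_E7 two_ne_zero AdjE7.hA AdjE7.lt_nroots AdjE7.row10 hr hrp
      (hn1 (by decide) h) (dvd10 hr h))
  · exact ho (by tauto)
  · exact ho (by tauto)
  · exact ho (by tauto)

/-- `5 ≤ r`, `r ∣ q² + 1`: adjacent to everything small -/
theorem four (F : Type u) [Field F] [Finite F] {p : ℕ} [Fact p.Prime] [CharP F p] {r : ℕ} (hr : r.Prime)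
    (h2 : r ≠ 2) (hrp : r ≠ p) (h4 : od (Nat.card F) r = 4) : H94.PG.Adj ↥(chevE7.group F) r 2 ∧
    H94.PG.Adj ↥(chevE7.group F) r p ∧ (p = 2 → r ≠ 3 → H94.PG.Adj ↥(chevE7.group F) r 3) := by
  let cs : CoxeterSystem CoxeterMatrix.E₇ CoxeterMatrix.E₇.Group := CoxeterMatrix.E₇.toCoxeterSystem
  have := finite_W e7T cs
  have hq : 1 ≤ Nat.card F := Nat.card_pos
  have hn1 : ¬ r ∣ Nat.card F - 1 := by
    intro h
    have h5 : od (Nat.card F) r ∣ 1 := od_dvd hq (by rw [pow_one]; exact h)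
    rw [h4] at h5
    exact absurd h5 (by decide)
  exact ⟨adj_row e7T cs inv_E7 two_ne_zero AdjE7.hA AdjE7.lt_nroots AdjE7.row4 hr h2 hn1 (dvd4 hr h4),
    adjp_row e7T cs inv_E7 two_ne_zero AdjE7.hA AdjE7.lt_nroots AdjE7.row4 hr hrp hn1 (dvd4 hr h4)⟩

/-! ### order 12 -/

section

variable {D : ChevalleyDatum} {l : ℕ} {M : CoxeterMatrix (Fin l)} (hp : IsType D l M)
  {W : Type*} [Group W] [Finite W] (cs : CoxeterSystem M W)

include hp cs in
theorem adj_torus {d : ℕ} {B : Fin l → Fin l → ℤ} (hB : InvC D l d B) (hd0 : d ≠ 0) {A : Mat l}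
    (hA : ∀ i j, A i j = cartanOf D l i j) {L : List (Fin l × Mat l)} (hL : ChainOK A L)
    {f : ℕ} {c : Fin (f + 1) → ℤ} {V : Fin (f + 1) → Fin l → ℤ} {U : Fin l → ℤ} (h : EigOK (hd L) c V U)
    {f' : ℕ} {c' : Fin (f' + 1) → ℤ} {V' : Fin (f' + 1) → Fin l → ℤ} {U' : Fin l → ℤ} (h' : EigOK (hd L) c' V' U')
    {F : Type u} [Field F] [Finite F] {r s : ℕ} (hr : r.Prime) (hs : s.Prime) (hne : r ≠ s)
    (hrd : r.Coprime (Nat.gcd d (Nat.card F - 1))) (hsd : s.Coprime (Nat.gcd d (Nat.card F - 1)))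
    (hdv : (r : ℤ) ∣ pv c (Nat.card F : ℕ)) (hdv' : (s : ℤ) ∣ pv c' (Nat.card F : ℕ)) :
    H94.PG.Adj ↥(D.group F) r s := by
  obtain ⟨x, y, hxy, hx, hy⟩ := exists_comm_torus hp cs hB hd0 hA hL h h' (F := F) hr.pos hs.pos hdv hdv'
  exact H94.PG.adj_of_dvd hr hs hne hxy (hrd.dvd_of_dvd_mul_right hx) (hsd.dvd_of_dvd_mul_right hy)
    (orderOf_pos _).ne' (orderOf_pos _).ne'

end

theorem not_SCC_12 (F : Type u) [Field F] [Finite F] {r : ℕ} (hr : r.Prime) (h : od (Nat.card F) r = 12) :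
    ¬ SCC ↥(chevE7.group F) r := by
  let cs : CoxeterSystem CoxeterMatrix.E₇ CoxeterMatrix.E₇.Group := CoxeterMatrix.E₇.toCoxeterSystem
  have := finite_W e7T cs
  have hq : 2 ≤ Nat.card F := Finite.one_lt_card
  have hr2 : ¬ r ∣ 2 := not_dvd_of_od hr h (by norm_num) (by norm_num)
  have hr2' : r ≠ 2 := by rintro rfl; exact hr2 dvd_rfl
  obtain ⟨s, hs, hs3, hs2, hsd⟩ := ExcNear.exists_three hq
  have hs1 := not_dvd_sub_of_three hq hs hs3 hsd
  have hpv : (s : ℤ) ∣ pv c3 (Nat.card F : ℕ) := pv_nat (by rw [pv3]; push_cast; rfl) hsd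
  have hrs : r ≠ s := by
    rintro rfl
    have h1 : r ∣ Nat.card F ^ 3 - 1 := by
      have e : Nat.card F ^ 3 - 1 = (Nat.card F ^ 2 + Nat.card F + 1) * (Nat.card F - 1) := by
        obtain ⟨t, ht⟩ : ∃ t, Nat.card F = t + 1 := ⟨Nat.card F - 1, by omega⟩
        rw [ht, Nat.add_sub_cancel, show (t + 1) ^ 3 = ((t + 1) ^ 2 + (t + 1) + 1) * t + 1 by ring,
          Nat.add_sub_cancel]
      rw [e]
      exact hsd.mul_right _
    have h2 := od_dvd (by omega) h1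
    rw [h] at h2
    exact absurd h2 (by decide)
  have a1 : H94.PG.Adj ↥(chevE7.group F) r s :=
    adj_torus e7T cs inv_E7 two_ne_zero AdjE7.hA AdjE7.chain12 AdjE7.tor12_12 AdjE7.tor12_3 hr hs hrs
      (coprime_gcd hr hr2) (coprime_gcd' hs hs1) (dvd12 hr h) hpv
  have e1 : pv c2 (Nat.card F : ℕ) = ((Nat.card F + 1 : ℕ) : ℤ) := by
    rw [pv2]; push_cast; ring
  rcases four_or (n := Nat.card F + 1) (by omega) with h4 | ⟨t, ht, ht2, htd⟩
  · exact not_SCC_of_two_adj a1 (near_four e7T cs inv_E7 AdjE7.hA E7Tor.chain12b E7Tor.tor12b_12 E7Tor.tor12b_2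
      hr hr2' (dvd12 hr h) (pv_nat e1 h4)) hs2
  · have hrt : r ≠ t := by
      rintro rfl
      have h1 : r ∣ Nat.card F ^ 2 - 1 := by
        have e : Nat.card F ^ 2 - 1 = (Nat.card F + 1) * (Nat.card F - 1) := by
          obtain ⟨t, ht⟩ : ∃ t, Nat.card F = t + 1 := ⟨Nat.card F - 1, by omega⟩
          rw [ht, Nat.add_sub_cancel, show (t + 1) ^ 2 = ((t + 1) + 1) * t + 1 by ring,
            Nat.add_sub_cancel]
        rw [e]
        exact htd.mul_right _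
      have h2 := od_dvd (by omega) h1
      rw [h] at h2
      exact absurd h2 (by decide)
    refine not_SCC_of_two_adj a1 (adj_torus e7T cs inv_E7 two_ne_zero AdjE7.hA E7Tor.chain12b E7Tor.tor12b_12
      E7Tor.tor12b_2 hr ht hrt (coprime_gcd hr hr2)
      (coprime_gcd ht fun h1 => ht2 ((Nat.prime_dvd_prime_iff_eq ht Nat.prime_two).1 h1)) (dvd12 hr h)
      (pv_nat e1 htd)) ?_
    rintro rfl
    have h3 : s ∣ 1 := by
      have e : Nat.card F ^ 2 + Nat.card F + 1 = (Nat.card F + 1) * Nat.card F + 1 := by ring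
      rw [e] at hsd
      exact (Nat.dvd_add_right (htd.mul_right _)).1 hsd
    exact hs.one_lt.ne' (Nat.dvd_one.1 h3)

end Cfsg.Agent.H632.Der.E7
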