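import Cfsg.Agent.H632.Der.Rows
import Cfsg.Agent.H473.Der.NscE8
import Cfsg.Agent.H290.ElE8t

/-!
# S3502: no prime is `SCC` for `E₈(q)` (helper632)
-/

set_option autoImplicit false

namespace Cfsg.Agent.H632.Der.E8

open CoxeterSystem Subgroup Cfsg Cfsg.Lie Cfsg.Lie.ChevalleyDatum
open Cfsg.Agent.ChevalleyStructure.CoxeterGeomTypes
open Cfsg.Agent.Nodes.RGDChev
open Cfsg.Agent.BpExc.RowsUntw Cfsg.Agent.BpExc.FamInst
open Cfsg.Agent.H378 Cfsg.Agent.H378.SmallTor Cfsg.Agent.H378.AdjTab Cfsg.Agent.H378.CycTab Cfsg.Agent.H378.ExcAdj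
open Cfsg.Agent.H439.Der Cfsg.Agent.H473.Der Cfsg.Agent.H371.Core Cfsg.Agent.H371.CycEval

universe u

/-- adjacency to the characteristic and to 3 -/
theorem adjp (F : Type u) [Field F] [Finite F] {p : ℕ} [Fact p.Prime] [CharP F p] {r : ℕ} (hr : r.Prime)
    (hd : r ∣ Nat.card ↥(chevE8.group F)) (h2 : r ≠ 2) (hrp : r ≠ p) (hrq : ¬ r ∣ Nat.card F) :
    (H94.PG.Adj ↥(chevE8.group F) r p ∧ (p = 2 → r ≠ 3 → H94.PG.Adj ↥(chevE8.group F) r 3)) ∨
      od (Nat.card F) r = 15 ∨ od (Nat.card F) r = 20 ∨ od (Nat.card F) r = 24 ∨ od (Nat.card F) r = 30 := by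
  let cs : CoxeterSystem CoxeterMatrix.E₈ CoxeterMatrix.E₈.Group := CoxeterMatrix.E₈.toCoxeterSystem
  have := finite_W e8T cs
  have hq : 1 ≤ Nat.card F := Nat.card_pos
  have ho : od (Nat.card F) r = 15 ∨ od (Nat.card F) r = 20 ∨ od (Nat.card F) r = 24 ∨ od (Nat.card F) r = 30 →
      (H94.PG.Adj ↥(chevE8.group F) r p ∧ (p = 2 → r ≠ 3 → H94.PG.Adj ↥(chevE8.group F) r 3)) ∨
      od (Nat.card F) r = 15 ∨ od (Nat.card F) r = 20 ∨ od (Nat.card F) r = 24 ∨ od (Nat.card F) r = 30 := fun h => Or.inr h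
  have hn1 : ∀ {m : ℕ}, m ≠ 1 → od (Nat.card F) r = m → ¬ r ∣ Nat.card F - 1 := by
    intro m hm h3 h4
    have h5 : od (Nat.card F) r ∣ 1 := od_dvd hq (by rw [pow_one]; exact h4)
    rw [h3] at h5
    exact hm (Nat.dvd_one.1 h5)
  rcases od_E8 hr hd with h | h | h | h | h | h | h | h | h | h | h | h | h | h | h | h | h | h
  · exact absurd h hrq
  · exact Or.inl (adjp_split e8T cs AdjE8.orth hr h2 hrp (dvd_of_od_one hq h))
  · exact Or.inl (adjp_row e8T cs inv_E8 one_ne_zero AdjE8.hA AdjE8.lt_nroots AdjE8.row2 hr hrp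
      (hn1 (by decide) h) (dvd2 hr h))
  · exact Or.inl (adjp_row e8T cs inv_E8 one_ne_zero AdjE8.hA AdjE8.lt_nroots AdjE8.row3 hr hrp
      (hn1 (by decide) h) (dvd3 hr h))
  · exact Or.inl (adjp_row e8T cs inv_E8 one_ne_zero AdjE8.hA AdjE8.lt_nroots AdjE8.row4 hr hrp
      (hn1 (by decide) h) (dvd4 hr h))
  · exact Or.inl (adjp_row e8T cs inv_E8 one_ne_zero AdjE8.hA AdjE8.lt_nroots AdjE8.row5 hr hrp
      (hn1 (by decide) h) (dvd5 hr h))
  · exact Or.inl (adjp_row e8T cs inv_E8 one_ne_zero AdjE8.hA AdjE8.lt_nroots AdjE8.row6 hr hrp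
      (hn1 (by decide) h) (dvd6 hr h))
  · exact Or.inl (adjp_row e8T cs inv_E8 one_ne_zero AdjE8.hA AdjE8.lt_nroots AdjE8.row7 hr hrp
      (hn1 (by decide) h) (dvd7 hr h))
  · exact Or.inl (adjp_row e8T cs inv_E8 one_ne_zero AdjE8.hA AdjE8.lt_nroots AdjE8.row8 hr hrp
      (hn1 (by decide) h) (dvd8 hr h))
  · exact Or.inl (adjp_row e8T cs inv_E8 one_ne_zero AdjE8.hA AdjE8.lt_nroots AdjE8.row9 hr hrp
      (hn1 (by decide) h) (dvd9 hr h))
  · exact Or.inl (adjp_row e8T cs inv_E8 one_ne_zero AdjE8.hA AdjE8.lt_nroots AdjE8.row10 hr hrp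
      (hn1 (by decide) h) (dvd10 hr h))
  · exact Or.inl (adjp_row e8T cs inv_E8 one_ne_zero AdjE8.hA AdjE8.lt_nroots AdjE8.row12 hr hrp
      (hn1 (by decide) h) (dvd12 hr h))
  · exact Or.inl (adjp_row e8T cs inv_E8 one_ne_zero AdjE8.hA AdjE8.lt_nroots AdjE8.row14 hr hrp
      (hn1 (by decide) h) (dvd14 hr h))
  · exact ho (by tauto)
  · exact Or.inl (adjp_row e8T cs inv_E8 one_ne_zero AdjE8.hA AdjE8.lt_nroots AdjE8.row18 hr hrp
      (hn1 (by decide) h) (dvd18 hr h))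
  · exact ho (by tauto)
  · exact ho (by tauto)
  · exact ho (by tauto)

/-- `5 ≤ r`, `r ∣ q² + 1`: adjacent to everything small -/
theorem four (F : Type u) [Field F] [Finite F] {p : ℕ} [Fact p.Prime] [CharP F p] {r : ℕ} (hr : r.Prime)
    (h2 : r ≠ 2) (hrp : r ≠ p) (h4 : od (Nat.card F) r = 4) : H94.PG.Adj ↥(chevE8.group F) r 2 ∧
    H94.PG.Adj ↥(chevE8.group F) r p ∧ (p = 2 → r ≠ 3 → H94.PG.Adj ↥(chevE8.group F) r 3) := by
  let cs : CoxeterSystem CoxeterMatrix.E₈ CoxeterMatrix.E₈.Group := CoxeterMatrix.E₈.toCoxeterSystem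
  have := finite_W e8T cs
  have hq : 1 ≤ Nat.card F := Nat.card_pos
  have hn1 : ¬ r ∣ Nat.card F - 1 := by
    intro h
    have h5 : od (Nat.card F) r ∣ 1 := od_dvd hq (by rw [pow_one]; exact h)
    rw [h4] at h5
    exact absurd h5 (by decide)
  exact ⟨adj_row e8T cs inv_E8 one_ne_zero AdjE8.hA AdjE8.lt_nroots AdjE8.row4 hr h2 hn1 (dvd4 hr h4),
    adjp_row e8T cs inv_E8 one_ne_zero AdjE8.hA AdjE8.lt_nroots AdjE8.row4 hr hrp hn1 (dvd4 hr h4)⟩

theorem big3 {q f : ℕ} (hq3 : 3 ≤ q) (hf : 2 ^ f ≤ q) {N : ℤ}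
    (hN : (q : ℤ) ^ 8 - (q : ℤ) ^ 7 + (q : ℤ) ^ 5 - (q : ℤ) ^ 4 + (q : ℤ) ^ 3 - q + 1 ≤ N) :
    4 * (f * 248) < N.natAbs := by
  have hf' : f < q := lt_of_lt_of_le Nat.lt_two_pow_self hf
  obtain ⟨a, rfl⟩ := Nat.exists_eq_add_of_le' hq3
  have h1 : (f : ℤ) ≤ a + 2 := by exact_mod_cast (by omega : f ≤ a + 2)
  have ha : (0 : ℤ) ≤ a := Int.natCast_nonneg a
  have h2 : ((4 * (f * 248) : ℕ) : ℤ) < N := by
    refine lt_of_lt_of_le ?_ hN
    have h2 : ((4 * (f * 248) : ℕ) : ℤ) ≤ 992 * a + 1984 := by push_cast; linarith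
    refine lt_of_le_of_lt h2 ?_
    push_cast
    have : 0 < ((a : ℤ) + 3) ^ 8 - ((a : ℤ) + 3) ^ 7 + ((a : ℤ) + 3) ^ 5 - ((a : ℤ) + 3) ^ 4 + ((a : ℤ) + 3) ^ 3 -
        ((a : ℤ) + 3) + 1 - (992 * a + 1984) := by
      ring_nf
      positivity
    linarith
  have h3 : (0 : ℤ) ≤ N := le_trans (Int.natCast_nonneg _) h2.le
  rw [← Int.natAbs_of_nonneg h3] at h2
  exact_mod_cast h2

theorem le20 {q : ℕ} (hq3 : 2 ≤ q) : (q : ℤ) ^ 8 - (q : ℤ) ^ 7 + (q : ℤ) ^ 5 - (q : ℤ) ^ 4 + (q : ℤ) ^ 3 - q + 1 ≤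
    (q : ℤ) ^ 8 - (q : ℤ) ^ 6 + (q : ℤ) ^ 4 - (q : ℤ) ^ 2 + 1 := by
  obtain ⟨b, rfl⟩ := Nat.exists_eq_add_of_le' hq3
  have hb0 : (0 : ℤ) ≤ b := Int.natCast_nonneg b
  push_cast
  have : 0 ≤ (((b : ℤ) + 2) ^ 8 - ((b : ℤ) + 2) ^ 6 + ((b : ℤ) + 2) ^ 4 - ((b : ℤ) + 2) ^ 2 + 1) -
      (((b : ℤ) + 2) ^ 8 - ((b : ℤ) + 2) ^ 7 + ((b : ℤ) + 2) ^ 5 - ((b : ℤ) + 2) ^ 4 + ((b : ℤ) + 2) ^ 3 -
        ((b : ℤ) + 2) + 1) := by
    ring_nf
    positivity
  linarith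

theorem le24 {q : ℕ} (hq3 : 2 ≤ q) : (q : ℤ) ^ 8 - (q : ℤ) ^ 7 + (q : ℤ) ^ 5 - (q : ℤ) ^ 4 + (q : ℤ) ^ 3 - q + 1 ≤
    (q : ℤ) ^ 8 - (q : ℤ) ^ 4 + 1 := by
  obtain ⟨b, rfl⟩ := Nat.exists_eq_add_of_le' hq3
  have hb0 : (0 : ℤ) ≤ b := Int.natCast_nonneg b
  push_cast
  have : 0 ≤ (((b : ℤ) + 2) ^ 8 - ((b : ℤ) + 2) ^ 4 + 1) -
      (((b : ℤ) + 2) ^ 8 - ((b : ℤ) + 2) ^ 7 + ((b : ℤ) + 2) ^ 5 - ((b : ℤ) + 2) ^ 4 + ((b : ℤ) + 2) ^ 3 -
        ((b : ℤ) + 2) + 1) := by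
    ring_nf
    positivity
  linarith

theorem le30 {q : ℕ} (hq3 : 2 ≤ q) : (q : ℤ) ^ 8 - (q : ℤ) ^ 7 + (q : ℤ) ^ 5 - (q : ℤ) ^ 4 + (q : ℤ) ^ 3 - q + 1 ≤
    (q : ℤ) ^ 8 + (q : ℤ) ^ 7 - (q : ℤ) ^ 5 - (q : ℤ) ^ 4 - (q : ℤ) ^ 3 + q + 1 := by
  obtain ⟨b, rfl⟩ := Nat.exists_eq_add_of_le' hq3
  have hb0 : (0 : ℤ) ≤ b := Int.natCast_nonneg b
  push_cast
  have : 0 ≤ (((b : ℤ) + 2) ^ 8 + ((b : ℤ) + 2) ^ 7 - ((b : ℤ) + 2) ^ 5 - ((b : ℤ) + 2) ^ 4 -
      ((b : ℤ) + 2) ^ 3 + ((b : ℤ) + 2) + 1) -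
      (((b : ℤ) + 2) ^ 8 - ((b : ℤ) + 2) ^ 7 + ((b : ℤ) + 2) ^ 5 - ((b : ℤ) + 2) ^ 4 + ((b : ℤ) + 2) ^ 3 -
        ((b : ℤ) + 2) + 1) := by
    ring_nf
    positivity
  linarith

section

variable {F : Type} [Field F] [Fintype F]

/-- one torus, `q ≥ 3` -/
theorem torus {m : ℕ} {P : ℤ} (hT : Tor ↥(chevE8.group F) (Nat.card F) m P.natAbs)
    {f : ℕ} (hO : Nat.card (Cfsg.Out ↥(chevE8.group F)) = f) (hP : 4 * (f * 248) < P.natAbs)
    {v : ℕ} (hv : v.Prime) (hvF : (v : F) ≠ 0) (hod : od (Nat.card F) v = m) :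
    ¬ SCC ↥(chevE8.group F) v :=
  not_SCC_of_torus hT (chevE8.group F).subtype (Subgroup.subtype_injective _) hv hvF hod hO.le
    (by rw [H290.ElE8.card_idx]; exact hP)

/-- one torus, `q = 2` -/
theorem torus2 {m e a : ℕ} (hT : Tor ↥(chevE8.group F) (Nat.card F) m a) (ha : a.Prime)
    (hO : Nat.card (Cfsg.Out ↥(chevE8.group F)) = 1) (he : 2 * e < a - 1) {R : ℤ}
    (hc : (Nat.card ↥(chevE8.group F) : ℤ) = a * R) (hmod : ((R : ℤ) : ZMod a) = e)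
    {v : ℕ} (hv : v.Prime) (hod : od (Nat.card F) v = m) : ¬ SCC ↥(chevE8.group F) v := by
  have hva : v = a := (Nat.prime_dvd_prime_iff_eq hv ha).1 (hT.dv v hv hod)
  subst hva
  refine not_SCC_of_cent hv ?_ (hT.ct v hv hod) (e := e) (o := 1) (by omega) hc hmod hO.le (by omega)
  have : (v : ℤ) ∣ (Nat.card ↥(chevE8.group F) : ℤ) := by rw [hc]; exact dvd_mul_right _ _
  exact Int.natCast_dvd_natCast.1 this

end

/-- **`E₈(q)`** -/
theorem ntc (F : Type) [Field F] [Fintype F] : NTC ↥(chevE8.group F) := by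
  obtain ⟨p, f, hp, hf, hF⟩ : ∃ p f : ℕ, p.Prime ∧ 1 ≤ f ∧ Fintype.card F = p ^ f := by
    obtain ⟨n, hp, h⟩ := FiniteField.card F (ringChar F)
    exact ⟨ringChar F, n, hp, n.pos, h⟩
  have := Fact.mk hp
  have : CharP F p := charP_of_card_eq_prime_pow hF
  have hO := Cfsg.Agent.S2125.result p f hF
  have hFc : Nat.card F = Fintype.card F := Nat.card_eq_fintype_card
  have hcard := H473.Der.E8.card_int (F := F) rfl
  have hq2 : 2 ≤ Fintype.card F := Fintype.one_lt_card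
  have h2f : 2 ^ f ≤ Fintype.card F := by rw [hF]; exact Nat.pow_le_pow_left hp.two_le f
  have hpq : p ∣ Nat.card F := by rw [hFc, hF]; exact dvd_pow_self _ (by omega)
  have hq_of : ∀ v : ℕ, v.Prime → v ∣ Nat.card F → v = p := by
    intro v hv h
    rw [hFc, hF] at h
    exact (Nat.prime_dvd_prime_iff_eq hv hp).1 (hv.dvd_of_dvd_pow h)
  -- 3 and 2
  have h3 : (3 : ℕ) ∣ Nat.card ↥(chevE8.group F) := by
    have h8 : ((3 : ℕ) : ℤ) ∣ (Nat.card ↥(chevE8.group F) : ℤ) := by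
      rw [hcard, ← ZMod.intCast_zmod_eq_zero_iff_dvd]
      push_cast
      generalize ((Fintype.card F : ℕ) : ZMod 3) = x
      revert x
      decide +kernel
    exact Int.natCast_dvd_natCast.1 h8
  have hod3 : ∀ m : ℕ, 2 < m → od (Nat.card F) 3 ≠ m := by
    intro m hm h5
    unfold od at h5
    generalize ((Nat.card F : ℕ) : ZMod 3) = x at h5
    have : orderOf x ≤ 2 := by
      fin_cases x
      · exact le_trans (le_of_eq (orderOf_eq_zero_iff'.2 fun n hn => by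
          change (0 : ZMod 3) ^ n ≠ 1
          rw [zero_pow hn.ne']
          decide)) (by norm_num)
      · exact orderOf_le_of_pow_eq_one (by norm_num) (by decide)
      · exact orderOf_le_of_pow_eq_one (by norm_num) (by decide)
    omega
  have h32 : H94.PG.Adj ↥(chevE8.group F) 3 2 := by
    rcases adj_E8 F Nat.prime_three h3 with h4 | h4 | h4 | h4 | h4 | h4
    · exact absurd h4 (by norm_num)
    · exact h4
    all_goals exact absurd h4 (hod3 _ (by norm_num))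
  obtain ⟨l, hl, hl5, hlq, hl4⟩ := exists_four (q := Nat.card F) (hFc ▸ hq2)
  have hlp : l ≠ p := by rintro rfl; exact hlq hpq
  obtain ⟨a1, a2, a3⟩ := four F hl (by omega) hlp hl4
  refine ntc_of hl5 hlp h32 a1 (fun _ => a2) (fun h => a3 h (by omega))
    (fun h => adj_small e8T AdjE8.orth hp h (Or.inl hpq)) ?_
  intro v hv hd hv2 hvp
  have hvq : ¬ v ∣ Nat.card F := fun h => hvp (hq_of v hv h)
  have hvF : (v : F) ≠ 0 := fun h => hvp ((Nat.prime_dvd_prime_iff_eq hp hv).1 ((CharP.cast_eq_zero_iff F p v).1 h)).symm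
  have key : (od (Nat.card F) v = 15 ∨ od (Nat.card F) v = 20 ∨ od (Nat.card F) v = 24 ∨ od (Nat.card F) v = 30) →
      ¬ SCC ↥(chevE8.group F) v := by
    intro h
    rcases Nat.lt_or_ge 2 (Fintype.card F) with hq3 | hq3
    · rcases h with h | h | h | h
      · refine torus (tor_E8_15 F) hO ?_ hv hvF h
        rw [hFc, ev15]
        exact big3 hq3 h2f le_rfl
      · refine torus (tor_E8_20 F) hO ?_ hv hvF h
        rw [hFc, ev20]
        exact big3 hq3 h2f (le20 hq2)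
      · refine torus (tor_E8_24 F) hO ?_ hv hvF h
        rw [hFc, ev24]
        exact big3 hq3 h2f (le24 hq2)
      · refine torus (tor_E8_30 F) hO ?_ hv hvF h
        rw [hFc, ev30]
        exact big3 hq3 h2f (le30 hq2)
    · have hq : Fintype.card F = 2 := le_antisymm hq3 hq2
      have hq' : Nat.card F = 2 := hFc.trans hq
      have hf1 : f = 1 := by
        rw [hq] at h2f
        have : f < 2 := (Nat.pow_lt_pow_iff_right (by norm_num : 1 < 2)).1 (lt_of_le_of_lt h2f (by norm_num))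
        omega
      rw [hf1] at hO
      have e15 : (ev 15 ((Nat.card F : ℕ) : ℤ)).natAbs = 151 := by rw [hq', ev15]; norm_num
      have e20 : (ev 20 ((Nat.card F : ℕ) : ℤ)).natAbs = 205 := by rw [hq', ev20]; norm_num
      have e24 : (ev 24 ((Nat.card F : ℕ) : ℤ)).natAbs = 241 := by rw [hq', ev24]; norm_num
      have e30 : (ev 30 ((Nat.card F : ℕ) : ℤ)).natAbs = 331 := by rw [hq', ev30]; norm_num
      rcases h with h | h | h | h
      · refine torus2 (R := 2237117570487647723585352255722421159470143657234885109775900396748800000) (e := 30) (e15 ▸ tor_E8_15 F)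
          (by norm_num) hO (by norm_num) ?_ (by decide +kernel) hv h
        rw [hcard, hq]; norm_num
      · have hT : Tor ↥(chevE8.group F) (Nat.card F) 20 205 := e20 ▸ tor_E8_20 F
        refine not_SCC_of_torus' hT hv h hO.le ?_
        have hd := hT.dv v hv h
        have h5 : v ∣ 5 * 41 := hd
        rcases (hv.dvd_mul).1 h5 with h6 | h6
        · have := (Nat.prime_dvd_prime_iff_eq hv (by norm_num)).1 h6
          subst this
          omega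
        · have := (Nat.prime_dvd_prime_iff_eq hv (by norm_num)).1 h6
          omega
      · refine torus2 (R := 1401679473625040689881278799228570933941874241669990255502742572236800000) (e := 24) (e24 ▸ tor_E8_24 F)
          (by norm_num) hO (by norm_num) ?_ (by decide +kernel) hv h
        rw [hcard, hq]; norm_num
      · refine torus2 (R := 1020558166597084006831988491281225362779431094388119793281453051084800000) (e := 30) (e30 ▸ tor_E8_30 F)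
          (by norm_num) hO (by norm_num) ?_ (by decide +kernel) hv h
        rw [hcard, hq]; norm_num
  rcases adjp F hv hd hv2 hvp hvq with hb | hb
  · rcases adj_E8 F hv hd with h4 | h4 | h4
    · exact absurd h4 hv2
    · exact Or.inl ⟨h4, fun _ => hb.1, hb.2⟩
    · exact Or.inr (key h4)
  · exact Or.inr (key hb)

end Cfsg.Agent.H632.Der.E8
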