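import Cfsg.Agent.H632.Der.NtcE6

/-!
# S3502: no prime is `SCC` for `²E₆(q)`, `q ≥ 3` (helper632)
-/

set_option autoImplicit false
set_option linter.unusedSectionVars false

namespace Cfsg.Agent.H632.Der.TE6

open Cfsg Cfsg.Lie Cfsg.Lie.ChevalleyDatum
open Cfsg.Agent.ChevalleyStructure Cfsg.Agent.ChevalleyStructure.Elts Cfsg.Agent.ChevalleyStructure.CoxeterGeomTypes
open Cfsg.Agent.Nodes Cfsg.Agent.Nodes.RGDChev
open Cfsg.Agent.H436 (Prim exists_prim)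
open Cfsg.Agent.H439.Der Cfsg.Agent.H473.Der
open Cfsg.Agent.H316.U6 (MData CentRoot)
open Cfsg.Agent.H129 Cfsg.Agent.H129.CycT Cfsg.Agent.H190.Exc Cfsg.Agent.H81.Der Cfsg.Agent.H632.Der.E6

universe u

variable {K : Type} [Field K] [Fintype K] {q : ℕ}

/-- **`²E₆(q)`, class 18.** -/
theorem not_SCC_18 (hq : IsPrimePow q) (hK : Fintype.card K = q ^ 2) {v : ℕ} (h : Prim q 18 v)
    (hG : Nat.gcd 3 (q + 1) * Nat.card ↥(twistedE6 K q) =
      q ^ 36 * (q ^ 2 - 1) * (q ^ 5 + 1) * (q ^ 6 - 1) * (q ^ 8 - 1) * (q ^ 9 + 1) * (q ^ 12 - 1))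
    {f : ℕ} (hO : Nat.card (Cfsg.Out ↥(twistedE6 K q)) = 2 * Nat.gcd 3 (q + 1) * f)
    (hlt : 38 * (Nat.gcd 3 (q + 1) * Nat.gcd 3 (q + 1) * f) < q ^ 6 - q ^ 3 + 1) :
    ¬ SCC ↥(twistedE6 K q) v := by
  have hq2 : 2 ≤ q := hq.two_le
  have hle : q ^ 3 ≤ q ^ 6 := Nat.pow_le_pow_right (by omega) (by norm_num)
  have hN : ((q ^ 6 - q ^ 3 + 1 : ℕ) : ℤ) = 1 - (q : ℤ) ^ 3 + (q : ℤ) ^ 6 := by push_cast [Nat.cast_sub hle]; ring
  have hE := exact_tE6_18 hq hK hN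
  have hvN := phi18 h (by omega) hN
  have hv9 := prim_dvd_sub h (by omega)
  have hv2 := h.prime.two_le
  have hv19 : 19 ≤ v := by omega
  have h3 : (q ^ 6 - q ^ 3 + 1) / Nat.gcd 3 (q + 1) * Nat.gcd 3 (q + 1) = q ^ 6 - q ^ 3 + 1 := by
    refine Nat.div_mul_cancel ?_
    rcases (Nat.dvd_prime Nat.prime_three).1 (Nat.gcd_dvd_left 3 (q + 1)) with h4 | h4
    · rw [h4]; exact one_dvd _
    · rw [h4]
      refine prim_nat hN ?_
      have h5 : 3 ∣ q + 1 := h4 ▸ Nat.gcd_dvd_right 3 (q + 1)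
      have h7 := (ZMod.natCast_eq_zero_iff (q + 1) 3).2 h5
      push_cast at h7
      have h8 : (q : ZMod 3) = -1 := eq_neg_of_add_eq_zero_left h7
      push_cast
      rw [h8]
      decide
  have hd0 : 0 < Nat.gcd 3 (q + 1) := Nat.gcd_pos_of_pos_left _ (by norm_num)
  obtain ⟨n, hn⟩ : ∃ n, n = (q ^ 6 - q ^ 3 + 1) / Nat.gcd 3 (q + 1) := ⟨_, rfl⟩
  rw [← hn] at hE h3
  have hvn : v ∣ n := by
    rw [← h3] at hvN
    exact ((Nat.Prime.dvd_mul h.prime).1 hvN).resolve_right (not_dvd_gcd3 h.prime (by omega))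
  have hn0 : 0 < n := by
    rcases Nat.eq_zero_or_pos n with h0 | h0
    · rw [h0, zero_mul] at h3; omega
    · exact h0
  have hn19 : 19 ≤ n := hv19.trans (Nat.le_of_dvd hn0 hvn)
  have hp : ∀ k, 1 ≤ q ^ k := fun k => Nat.one_le_pow _ _ (by omega)
  have h9 : q ^ 9 + 1 = (q ^ 3 + 1) * (n * Nat.gcd 3 (q + 1)) := by
    rw [h3]
    zify [hle]
    ring
  have hGn : Nat.card ↥(twistedE6 K q) = n * (q ^ 36 * ((q ^ 2 - 1) * (q ^ 5 + 1) * (q ^ 6 - 1) * (q ^ 8 - 1) *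
      (q ^ 3 + 1) * (q ^ 12 - 1))) := by
    apply Nat.eq_of_mul_eq_mul_left hd0
    rw [hG, h9]
    ring
  refine not_SCC_of_exact_comp h.prime hvn hE (e := 9) (by omega) (by omega)
    (N := ((q ^ 36 * ((q ^ 2 - 1) * (q ^ 5 + 1) * (q ^ 6 - 1) * (q ^ 8 - 1) *
      (q ^ 3 + 1) * (q ^ 12 - 1)) : ℕ) : ℤ)) (by rw [hGn]; push_cast; ring) ?_ hO.le ?_
  · push_cast [Nat.cast_sub (hp 2), Nat.cast_sub (hp 6), Nat.cast_sub (hp 8), Nat.cast_sub (hp 12)]
    have h4 : ((q ^ 6 - q ^ 3 + 1 : ℕ) : ZMod n) = 0 := by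
      rw [← h3, Nat.cast_mul, ZMod.natCast_self, zero_mul]
    push_cast [Nat.cast_sub hle] at h4
    have h5 := nine_id (x := -(q : ZMod n)) (by linear_combination h4)
    rw [← h5]
    ring
  · generalize Nat.gcd 3 (q + 1) = g at *
    have h5 : 38 * (g * f) < n := by
      have : g * (38 * (g * f)) < g * n := by
        calc g * (38 * (g * f)) = 38 * (g * g * f) := by ring
          _ < n * g := h3 ▸ hlt
          _ = g * n := mul_comm _ _
      exact Nat.lt_of_mul_lt_mul_left this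
    have h6 : 18 * v ≤ 19 * (v - 1) := by omega
    calc v * (2 * (2 * g * f * 9)) = (18 * v) * (2 * (g * f)) := by ring
      _ ≤ (19 * (v - 1)) * (2 * (g * f)) := Nat.mul_le_mul_right _ h6
      _ = (38 * (g * f)) * (v - 1) := by ring
      _ < n * (v - 1) := Nat.mul_lt_mul_of_pos_right h5 (by omega)

/-- the numbers for `q = 3`, `q = 4`, `q ≥ 5` -/
theorem nums {q f : ℕ} (hq3 : 3 ≤ q) (h2f : 2 ^ f ≤ q) :
    338 * (Nat.gcd 3 (q + 1) * Nat.gcd 3 (q + 1) * f) < (q ^ 4 + 1) * (q ^ 2 - 1) ∧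
    338 * (Nat.gcd 3 (q + 1) * Nat.gcd 3 (q + 1) * f) < (q ^ 4 - q ^ 2 + 1) * (q ^ 2 - q + 1) := by
  have hf := E7.f_le hq3 h2f
  obtain ⟨-, hg9⟩ := g_sq_le (g := Nat.gcd 3 (q + 1)) rfl
  rcases Nat.lt_or_ge q 5 with h5 | h5
  · have h6 : q = 3 ∨ q = 4 := by omega
    rcases h6 with rfl | rfl
    · constructor
      · norm_num
        omega
      · norm_num
        omega
    · constructor
      · norm_num
        omega
      · norm_num
        omega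
  · exact ⟨num8 h5 hf hg9, num12 h5 hf hg9⟩

/-- **`²E₆(q)`, `q ≥ 3`** -/
theorem ntc (hq : IsPrimePow q) (hK : Fintype.card K = q ^ 2) (hq3 : 3 ≤ q) : NTC ↥(twistedE6 K q) := by
  obtain ⟨r, f, hr, hf0, hrf'⟩ := (isPrimePow_nat_iff q).1 hq
  have hrf : Fact r.Prime := ⟨hr⟩
  have hch : CharP K r := by
    have h1 : Fintype.card K = r ^ (2 * f) := by rw [hK, ← hrf', ← pow_mul, mul_comm]
    exact charP_of_card_eq_prime_pow h1
  have hfin : Finite ↥(twistedE6 K q) := inferInstance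
  obtain ⟨m, hdd, hg⟩ := H316.U6.mdata_twE6' (r := r) hq hK
  have hdd3 : m.dd ∣ 3 := by rw [hdd]; exact Nat.gcd_dvd_left _ _
  have hrq : r ∣ q := by rw [← hrf']; exact dvd_pow_self r hf0.ne'
  have hmq : r ^ m.e = q := m.hq
  have hG := S1066.result (K := K) hq hK
  have hq1 : 1 ≤ q := by omega
  have h2f : 2 ^ f ≤ q := by rw [← hrf']; exact Nat.pow_le_pow_left hr.two_le f
  have hO : Nat.card (Cfsg.Out ↥(twistedE6 K q)) = 2 * Nat.gcd 3 (q + 1) * f := by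
    subst hrf'
    rw [S2130.result r f (by rw [hK, ← pow_mul, mul_comm]) hf0]
  obtain ⟨hn8, hn12⟩ := nums hq3 h2f
  obtain ⟨hg0, hg9⟩ := g_sq_le (g := Nat.gcd 3 (q + 1)) rfl
  -- auxiliary primes
  obtain ⟨l, hl4⟩ := exists_prim (q := q) (e := 4) (by omega) (by norm_num) (by norm_num)
  have hlf : Fact l.Prime := ⟨hl4.prime⟩
  have hlr : l ≠ r := by
    rintro rfl
    exact hl4.not_dvd hrq
  have hol : orderOf ((r ^ m.e : ℕ) : ZMod l) = 4 := by rw [hmq]; exact order_of_prim hl4 (by omega)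
  have hlodd := hl4.odd (by norm_num)
  have hl5 : 5 ≤ l := by
    have h1 := prim_gt hl4 hq1
    omega
  have hf3 : Fact (Nat.Prime 3) := ⟨Nat.prime_three⟩
  have h3 : r ≠ 3 → CentRoot m 3 := by
    intro hr3
    have h0 : ((r ^ m.e : ℕ) : ZMod 3) ≠ 0 := by
      rw [Ne, ZMod.natCast_eq_zero_iff]
      intro h
      exact hr3 ((Nat.prime_dvd_prime_iff_eq Nat.prime_three hr).1 (Nat.prime_three.dvd_of_dvd_pow h)).symm
    have h2 := orderOf_dvd_of_pow_eq_one (sq_three _ h0)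
    refine centRoot_TE6 m hg hdd3 (by norm_num) (Ne.symm hr3) ?_
    rcases (Nat.dvd_prime Nat.prime_two).1 h2 with h4 | h4
    · exact Or.inl h4
    · exact Or.inr (Or.inl h4)
  refine ntc_of_centRoot m (t := chevE6.simple 1) (by decide) (by decide +kernel) h3 hl4.prime hl5 hlr
    (centRoot_TE6 m hg hdd3 (by omega) hlr (Or.inr (Or.inr (Or.inr (Or.inl hol))))) ?_
  intro v hv hvT hv2 hvr
  have hvf : Fact v.Prime := ⟨hv⟩
  have hvF : (v : K) ≠ 0 := fun h => hvr ((Nat.prime_dvd_prime_iff_eq hr hv).1 ((CharP.cast_eq_zero_iff K r v).1 h)).symm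
  -- the order of `q`
  have hvq : ¬ v ∣ q := by
    intro h
    rw [← hrf'] at h
    exact hvr ((Nat.prime_dvd_prime_iff_eq hv hr).1 (hv.dvd_of_dvd_pow h))
  have h1 : v ∣ q ^ 36 * (q ^ 2 - 1) * (q ^ 5 + 1) * (q ^ 6 - 1) * (q ^ 8 - 1) * (q ^ 9 + 1) * (q ^ 12 - 1) := by
    rw [← hG]
    exact hvT.mul_left _
  obtain ⟨d, hd⟩ : ∃ d, d = orderOf (q : ZMod v) := ⟨_, rfl⟩
  have h2 : d ∣ 2 ∨ (d ∣ 10 ∧ ¬ d ∣ 5) ∨ d ∣ 6 ∨ d ∣ 8 ∨ (d ∣ 18 ∧ ¬ d ∣ 9) ∨ d ∣ 12 := by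
    rw [hd]
    rcases (hv.dvd_mul).1 h1 with h1 | h1
    · rcases (hv.dvd_mul).1 h1 with h1 | h1
      · rcases (hv.dvd_mul).1 h1 with h1 | h1
        · rcases (hv.dvd_mul).1 h1 with h1 | h1
          · rcases (hv.dvd_mul).1 h1 with h1 | h1
            · rcases (hv.dvd_mul).1 h1 with h1 | h1
              · exact absurd (hv.dvd_of_dvd_pow h1) hvq
              · exact Or.inl (order_dvd_of hq1 h1)
            · exact Or.inr (Or.inl (order_dvd_of_add hv2 h1))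
          · exact Or.inr (Or.inr (Or.inl (order_dvd_of hq1 h1)))
        · exact Or.inr (Or.inr (Or.inr (Or.inl (order_dvd_of hq1 h1))))
      · exact Or.inr (Or.inr (Or.inr (Or.inr (Or.inl (order_dvd_of_add hv2 h1)))))
    · exact Or.inr (Or.inr (Or.inr (Or.inr (Or.inr (order_dvd_of hq1 h1)))))
  have h3 : (d = 1 ∨ d = 2 ∨ d = 3 ∨ d = 4 ∨ d = 6 ∨ d = 10) ∨ d = 8 ∨ d = 18 ∨ d = 12 := by
    have h4 : d ≤ 18 := by
      rcases h2 with h | ⟨h, -⟩ | h | h | ⟨h, -⟩ | h <;> exact (Nat.le_of_dvd (by norm_num) h).trans (by norm_num)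
    clear hd
    interval_cases d <;> revert h2 <;> decide
  rcases h3 with h3 | h3 | h3 | h3
  · have ho : orderOf ((r ^ m.e : ℕ) : ZMod v) = d := by rw [hmq, hd]
    exact Or.inl (centRoot_TE6 m hg hdd3 hv2 hvr (by rw [ho]; exact h3))
  · right
    have hP := prim_of hv hq1 hvq (hd.symm.trans h3)
    obtain ⟨P, hN, hPN, hT⟩ := tcc_te6_8 hq hK hP
    have h15 : 13 ≤ v := by
      have h4 := prim_dvd_sub hP hq1
      have h5 := hv.two_le
      have h6 : v ≠ 9 := by rintro rfl; exact absurd hv (by norm_num)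
      omega
    exact torus (twistedE6 K q).subtype (Subgroup.subtype_injective _) hv hvF hN hg0 hn8 hO h15 hT
  · right
    exact not_SCC_18 hq hK (prim_of hv hq1 hvq (hd.symm.trans h3)) hG hO (num9 hq3 (E7.f_le hq3 h2f) hg9)
  · right
    have hP := prim_of hv hq1 hvq (hd.symm.trans h3)
    obtain ⟨P, hN, hPN, hT⟩ := tcc_te6_12 hq hK hP
    have h13 : 13 ≤ v := by
      have h4 := prim_gt hP hq1
      omega
    exact torus (twistedE6 K q).subtype (Subgroup.subtype_injective _) hv hvF hN hg0 hn12 hO h13 hT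

end Cfsg.Agent.H632.Der.TE6
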